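import Groth.Agent.IsoNatLib.Twist.Glue

/-!
# Two copies of a scheme glued along an open part, and classes of objects twisted on them
-/

set_option autoImplicit false
set_option linter.style.haveILetI false
set_option backward.isDefEq.respectTransparency false
set_option backward.isDefEq.respectTransparency.types false

universe u

open CategoryTheory CategoryTheory.Limits AlgebraicGeometry Opposite FibCat
open Groth.Agent.Stk19 Groth.Agent.Desc19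

namespace Groth.Agent.IsoNatLib.Twist

variable {S : Scheme.{u}} {𝒳 : AlgSt.Cat S}

/-- Data of two charts glued along their common open part. -/
structure Doubled {L W : Over S} (j : W ⟶ L) (P : Over S) (ι₁ ι₂ : L ⟶ P) : Prop where
  mono₁ : Mono ι₁
  mono₂ : Mono ι₂
  sq : IsPullback j j ι₁ ι₂
  cover : Sieve.ofArrows (fun _ : ULift.{u} Bool => L) (fun k => if k.down then ι₂ else ι₁) ∈ AlgSp.J S P
  open₁ : IsOpenImmersion ι₁.left
  open₂ : IsOpenImmersion ι₂.left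

/-- Two copies of a scheme glue along an open part, and maps agreeing on it descend. -/
theorem exists_doubled {L W : Over S} (j : W ⟶ L) [IsOpenImmersion j.left] :
    ∃ (P : Over S) (ι₁ ι₂ : L ⟶ P), Doubled j P ι₁ ι₂ ∧
      ∀ {T : Over S} (f₁ f₂ : L ⟶ T), j ≫ f₁ = j ≫ f₂ → ∃ π : P ⟶ T, ι₁ ≫ π = f₁ ∧ ι₂ ≫ π = f₂ := by
  let i : W.left ⟶ L.left := j.left
  haveI : IsOpenImmersion i := inferInstanceAs (IsOpenImmersion j.left)
  let Pl : Scheme.{u} := pushout i i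
  let P : Over S := Over.mk (pushout.desc L.hom L.hom rfl : Pl ⟶ S)
  let ι₁ : L ⟶ P := Over.homMk (pushout.inl i i) (pushout.inl_desc _ _ _)
  let ι₂ : L ⟶ P := Over.homMk (pushout.inr i i) (pushout.inr_desc _ _ _)
  let D := span i i
  have hop : ∀ k, IsOpenImmersion (colimit.ι D k) := fun k => inferInstance
  have ho₁ : IsOpenImmersion ι₁.left := hop WalkingSpan.left
  have ho₂ : IsOpenImmersion ι₂.left := hop WalkingSpan.right
  haveI : Mono ι₁ := (Over.forget S).mono_of_mono_map (inferInstanceAs (Mono ι₁.left))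
  haveI : Mono ι₂ := (Over.forget S).mono_of_mono_map (inferInstanceAs (Mono ι₂.left))
  have hw₀ : j ≫ ι₁ = j ≫ ι₂ := Over.OverMorphism.ext pushout.condition
  have hsurj : ∀ q : ↥Pl, ∃ k : ULift.{u} Bool, q ∈ Set.range (if k.down then ι₂ else ι₁).left := by
    intro q
    obtain ⟨k, y, rfl⟩ := (Scheme.IsLocallyDirected.openCover D).exists_eq q
    rcases k with _ | _ | _
    · refine ⟨⟨false⟩, (i : W.left ⟶ L.left) y, ?_⟩
      exact congrArg (fun f => f y) (colimit.w D WalkingSpan.Hom.fst)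
    · exact ⟨⟨false⟩, y, rfl⟩
    · exact ⟨⟨true⟩, y, rfl⟩
  haveI : ∀ k : ULift.{u} Bool, IsOpenImmersion (if k.down then ι₂ else ι₁).left := fun k => by
    obtain ⟨_ | _⟩ := k
    · exact ho₁
    · exact ho₂
  have hcov : Sieve.ofArrows (fun _ : ULift.{u} Bool => L) (fun k => if k.down then ι₂ else ι₁) ∈ AlgSp.J S P :=
    AlgSpLib.ofArrows_mem_J _ hsurj
  have hbad : ∀ (a b : ↥L.left), ι₁.left a = ι₂.left b → a ∈ Set.range i := by
    intro a b hab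
    obtain ⟨k, f, g, z, hz1, hz2⟩ := Scheme.IsLocallyDirected.ι_eq_ι_iff (F := D)
      (i := WalkingSpan.left) (j := WalkingSpan.right) |>.1 hab
    rcases k with _ | _ | _
    · refine ⟨z, ?_⟩
      rw [← hz1, show f = WalkingSpan.Hom.fst from Subsingleton.elim _ _]
      rfl
    · exact nomatch g
    · exact nomatch f
  have sq : IsPullback (j) (j) ι₁ ι₂ := by
    refine ⟨⟨hw₀⟩, ⟨PullbackCone.IsLimit.mk _ (fun s => Over.homMk (IsOpenImmersion.lift i s.fst.left ?_) ?_)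
      (fun s => ?_) (fun s => ?_) (fun s m h1 h2 => ?_)⟩⟩
    · rintro _ ⟨z, rfl⟩
      refine hbad _ (s.snd.left z) ?_
      rw [← Scheme.Hom.comp_apply, ← Scheme.Hom.comp_apply]
      exact congrArg (fun f => f z) (congrArg CommaMorphism.left s.condition)
    · rw [← Over.w j, IsOpenImmersion.lift_fac_assoc]
      exact Over.w s.fst
    · exact Over.OverMorphism.ext (IsOpenImmersion.lift_fac _ _ _)
    · refine (cancel_mono ι₂).1 ((Category.assoc _ _ _).trans ((congrArg (_ ≫ ·) hw₀.symm).trans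
        (Eq.trans ?_ s.condition)))
      exact Over.OverMorphism.ext (IsOpenImmersion.lift_fac_assoc _ _ _ _)
    · haveI : Mono (j) := (Over.forget S).mono_of_mono_map (inferInstanceAs (Mono i))
      refine (cancel_mono (j)).1 (h1.trans (Eq.symm ?_))
      exact Over.OverMorphism.ext (IsOpenImmersion.lift_fac _ _ _)
  refine ⟨P, ι₁, ι₂, ⟨inferInstance, inferInstance, sq, hcov, ho₁, ho₂⟩, fun {T} f₁ f₂ hf => ?_⟩
  refine ⟨Over.homMk (pushout.desc f₁.left f₂.left (congrArg CommaMorphism.left hf)) ?_,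
    Over.OverMorphism.ext (pushout.inl_desc _ _ _), Over.OverMorphism.ext (pushout.inr_desc _ _ _)⟩
  apply pushout.hom_ext
  · show pushout.inl i i ≫ pushout.desc _ _ _ ≫ _ = pushout.inl i i ≫ pushout.desc _ _ _
    rw [pushout.inl_desc_assoc, pushout.inl_desc]
    exact Over.w f₁
  · show pushout.inr i i ≫ pushout.desc _ _ _ ≫ _ = pushout.inr i i ≫ pushout.desc _ _ _
    rw [pushout.inr_desc_assoc, pushout.inr_desc]
    exact Over.w f₂

/-- An arrow from two charts agreeing on the overlap. -/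
theorem exists_of_charts (hS : Stk.IsStack (AlgSp.J S) 𝒳) {L W P : Over S} {j : W ⟶ L} {ι₁ ι₂ : L ⟶ P}
    (hD : Doubled j P ι₁ ι₂) {x y : 𝒳.obj} (hx : 𝒳.p.obj x = P) (hy : 𝒳.p.obj y = P) {zW : 𝒳.obj}
    (hW : 𝒳.p.obj zW = W) {z : Bool → 𝒳.obj} (hz : ∀ s, 𝒳.p.obj (z s) = L)
    (μ : ∀ s, z s ⟶ x) (τ : ∀ s, z s ⟶ y) (w : ∀ s, zW ⟶ z s)
    (hμ : ∀ s, 𝒳.p.map (μ s) = eqToHom (hz s) ≫ (if s then ι₂ else ι₁) ≫ eqToHom hx.symm)
    (hτ : ∀ s, 𝒳.p.map (τ s) = eqToHom (hz s) ≫ (if s then ι₂ else ι₁) ≫ eqToHom hy.symm)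
    (hw : ∀ s, 𝒳.p.map (w s) = eqToHom hW ≫ j ≫ eqToHom (hz s).symm)
    (hwμ : w false ≫ μ false = w true ≫ μ true) (hwτ : w false ≫ τ false = w true ≫ τ true) :
    ∃ χ : x ⟶ y, 𝒳.p.map χ = eqToHom (hx.trans hy.symm) ∧ IsIso χ ∧ ∀ s, μ s ≫ χ = τ s := by
  let R := Sieve.ofArrows (fun _ : ULift.{u} Bool => L) (fun k => if k.down then ι₂ else ι₁)
  haveI := hD.mono₁
  haveI := hD.mono₂
  have hmono : ∀ s : Bool, Mono (if s then ι₂ else ι₁) := fun s => by cases s <;> assumption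
  subst hx
  have hfac : ∀ (c : 𝒳.obj) (m : c ⟶ x), R.arrows (𝒳.p.map m ≫ eqToHom rfl) →
      ∃ (s : Bool) (ω : c ⟶ z s), ω ≫ μ s = m := by
    intro c m hm
    rw [eqToHom_refl, Category.comp_id] at hm
    obtain ⟨k, l, hl⟩ := (Sieve.mem_ofArrows_iff _ _ _).1 hm
    obtain ⟨ω, ⟨-, hω⟩, -⟩ := fibGrpd_fac hS.1 (μ k.down) m (l ≫ eqToHom (hz k.down).symm) (by
      rw [hμ]
      simp [hl])
    exact ⟨k.down, ω, hω⟩
  choose K ω hω using hfac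
  have hsame : ∀ (c : 𝒳.obj) (s : Bool) (f f' : c ⟶ z s), f ≫ μ s = f' ≫ μ s → f = f' := by
    intro c s f f' h
    refine fibGrpd_ext hS.1 (μ s) ?_ h
    have h' := congrArg 𝒳.p.map h
    rw [𝒳.p.map_comp, 𝒳.p.map_comp, hμ, eqToHom_refl, Category.comp_id] at h'
    have := hmono s
    exact (cancel_mono (eqToHom (hz s) ≫ if s then ι₂ else ι₁)).1 h'
  have hdiff : ∀ (c : 𝒳.obj) (f : c ⟶ z false) (f' : c ⟶ z true),
      f ≫ μ false = f' ≫ μ true → f ≫ τ false = f' ≫ τ true := by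
    intro c f f' h
    have h' := congrArg 𝒳.p.map h
    rw [𝒳.p.map_comp, 𝒳.p.map_comp, hμ, hμ] at h'
    simp only [eqToHom_refl, Category.comp_id, Bool.false_eq_true, if_false, if_true, ← Category.assoc] at h'
    let l := hD.sq.lift _ _ h'
    obtain ⟨g, ⟨hgm, hg⟩, -⟩ := fibGrpd_fac hS.1 (w false) f (l ≫ eqToHom hW.symm) (by
      rw [hw]
      simp only [Category.assoc, eqToHom_trans_assoc, eqToHom_refl, Category.id_comp, l]
      rw [hD.sq.lift_fst_assoc]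
      simp)
    have h2 : f' = g ≫ w true := hsame c true _ _ (by rw [← h, ← hg, Category.assoc, Category.assoc, hwμ])
    rw [h2, ← hg, Category.assoc, Category.assoc, hwτ]
  have hany : ∀ (c : 𝒳.obj) (k₁ k₂ : Bool) (f₁ : c ⟶ z k₁) (f₂ : c ⟶ z k₂),
      f₁ ≫ μ k₁ = f₂ ≫ μ k₂ → f₁ ≫ τ k₁ = f₂ ≫ τ k₂ := by
    intro c k₁ k₂ f₁ f₂ e
    cases k₁ <;> cases k₂
    · rw [hsame _ _ _ _ e]
    · exact hdiff _ _ _ e
    · exact (hdiff _ _ _ e.symm).symm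
    · rw [hsame _ _ _ _ e]
  obtain ⟨χ, ⟨hχ, hspec⟩, -⟩ := (isPrestackFor_iff_glue hS.1 R).1 ((isStack_isPrestack hS).2 R hD.cover)
    x y rfl hy (fun c m hm => ω c m hm ≫ τ (K c m hm))
    (fun c m hm => by
      conv_rhs => rw [← hω c m hm, 𝒳.p.map_comp, hμ]
      rw [𝒳.p.map_comp, hτ]
      simp)
    (fun c' c g m hm hm' => by
      rw [← Category.assoc]
      exact hany _ _ _ _ _ (by rw [hω, Category.assoc, hω]))
  refine ⟨χ, hχ, ?_, fun s => ?_⟩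
  swap
  · have hm : R.arrows (𝒳.p.map (μ s) ≫ eqToHom rfl) := by
      rw [eqToHom_refl, Category.comp_id, hμ, eqToHom_refl, Category.comp_id]
      exact R.downward_closed (Sieve.ofArrows_mk _ _ (⟨s⟩ : ULift.{u} Bool)) _
    rw [hspec _ (μ s) hm]
    simpa using hany _ _ s (ω _ (μ s) hm) (𝟙 (z s)) (by rw [hω, Category.id_comp])
  have : IsIso (𝒳.p.map χ) := by rw [hχ]; infer_instance
  exact fibGrpd_isIso hS.1 _

/-- Arrows agreeing on a covering of the source are equal. -/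
theorem hom_ext_of_cover (hS : Stk.IsStack (AlgSp.J S) 𝒳) {κ : Type*} {x y : 𝒳.obj} {W : κ → Over S}
    (c : ∀ k, W k ⟶ 𝒳.p.obj x) (hR : Sieve.ofArrows W c ∈ AlgSp.J S (𝒳.p.obj x)) {z : κ → 𝒳.obj}
    (μ : ∀ k, z k ⟶ x) (hz : ∀ k, 𝒳.p.obj (z k) = W k) (hμ : ∀ k, 𝒳.p.map (μ k) = eqToHom (hz k) ≫ c k)
    (f₁ f₂ : x ⟶ y) (hf : 𝒳.p.map f₁ = 𝒳.p.map f₂) (he : ∀ k, μ k ≫ f₁ = μ k ≫ f₂) : f₁ = f₂ := by
  obtain ⟨χ, ⟨hχm, hχ⟩, -⟩ := fibGrpd_fac hS.1 f₁ f₂ (𝟙 _) ((Category.id_comp _).trans hf)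
  have hk : ∀ k, μ k ≫ χ = μ k := fun k =>
    fibGrpd_ext hS.1 f₁ (by rw [𝒳.p.map_comp, hχm, Category.comp_id]) (by rw [Category.assoc, hχ, he])
  rw [← hχ, aut_eq_id_of_local (AlgSp.J S) (isStack_isPrestack hS) χ hχm hR ?_, Category.id_comp]
  intro V f hfR z' ν hν φ' hφ' hc
  obtain ⟨k, g, rfl⟩ := (Sieve.mem_ofArrows_iff _ _ _).1 hfR
  have e0 : 𝒳.p.obj z' = V := IsHomLift.domain_eq 𝒳.p (g ≫ c k) ν
  obtain ⟨γ, ⟨-, hγ⟩, -⟩ := fibGrpd_fac hS.1 (μ k) ν (eqToHom e0 ≫ g ≫ eqToHom (hz k).symm) (by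
    rw [IsHomLift.fac' 𝒳.p (g ≫ c k) ν, hμ]
    simp)
  refine fibGrpd_ext hS.1 ν (by rw [hφ', 𝒳.p.map_id]) ?_
  rw [hc, Category.id_comp, ← hγ, Category.assoc, hk]

/-- An arrow with identity image gives an isomorphism in a fibre. -/
theorem nonempty_iso_of_vert (h : IsFibGrpd 𝒳.p) {T : Over S} {a b : 𝒳.p.Fiber T} (χ : a.1 ⟶ b.1)
    (hχ : 𝒳.p.map χ = eqToHom (a.2.trans b.2.symm)) : Nonempty (a ≅ b) := by
  haveI : IsIso χ := by
    have : IsIso (𝒳.p.map χ) := by rw [hχ]; infer_instance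
    exact fibGrpd_isIso h _
  haveI hl : 𝒳.p.IsHomLift (𝟙 T) (asIso χ).hom := IsHomLift.of_fac' 𝒳.p _ _ a.2 b.2 (by simp [hχ])
  haveI := vert_inv 𝒳.p (asIso χ) hl
  exact ⟨⟨Functor.Fiber.homMk 𝒳.p _ (asIso χ).hom, Functor.Fiber.homMk 𝒳.p _ (asIso χ).inv,
    Functor.Fiber.hom_ext (asIso χ).hom_inv_id, Functor.Fiber.hom_ext (asIso χ).inv_hom_id⟩⟩

/-- If the twisted object is isomorphic to the untwisted one the automorphism extends. -/
theorem exists_extend_of (hS : Stk.IsStack (AlgSp.J S) 𝒳) {η zL zW : 𝒳.obj} (ν : zL ⟶ η) (w : zW ⟶ zL)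
    (h : zW ⟶ η) (hh : 𝒳.p.map h = 𝒳.p.map w ≫ 𝒳.p.map ν) {P : Over S} {ι₁ ι₂ : 𝒳.p.obj zL ⟶ P}
    (hD : Doubled (𝒳.p.map w) P ι₁ ι₂) (π : P ⟶ 𝒳.p.obj η) (hπ₁ : ι₁ ≫ π = 𝒳.p.map ν)
    (hπ₂ : ι₂ ≫ π = 𝒳.p.map ν)
    (htriv : ∀ (x : 𝒳.p.Fiber P) (μ₁ μ₂ : zL ⟶ x.1) (x' : 𝒳.p.Fiber P) (a : x'.1 ⟶ η),
      𝒳.p.map μ₁ = ι₁ ≫ eqToHom x.2.symm → 𝒳.p.map μ₂ = ι₂ ≫ eqToHom x.2.symm →
      𝒳.p.map a = eqToHom x'.2 ≫ π → Nonempty (x' ≅ x)) :
    ∃ c : zL ⟶ η, 𝒳.p.map c = 𝒳.p.map ν ∧ w ≫ c = h := by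
  haveI := hD.mono₁
  haveI := hD.mono₂
  obtain ⟨v, ⟨hvm, hv⟩, -⟩ := fibGrpd_fac hS.1 (w ≫ ν) h (𝟙 _) (by
    rw [Category.id_comp, hh, 𝒳.p.map_comp])
  obtain ⟨x, hx, μ₁, μ₂, hμ₁, hμ₂, hμ⟩ := exists_twist hS π ι₁ ι₂ ν w hπ₁ hπ₂ hD.sq hD.cover v hvm
  obtain ⟨ηP, ρP, eP, hρP⟩ := fibGrpd_lift hS.1 η π
  obtain ⟨ψ⟩ := htriv ⟨x, hx⟩ μ₁ μ₂ ⟨ηP, eP⟩ ρP hμ₁ hμ₂ hρP
  let ψ₁ : ηP ⟶ x := ψ.hom.1
  haveI : 𝒳.p.IsHomLift (𝟙 P) ψ₁ := ψ.hom.2
  have hψ : 𝒳.p.map ψ₁ = eqToHom (eP.trans hx.symm) := by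
    rw [IsHomLift.fac' 𝒳.p (𝟙 P) ψ₁]; simp
  have hα : ∀ s : Bool, ∃! α : zL ⟶ ηP,
      𝒳.p.map α = (if s then ι₂ else ι₁) ≫ eqToHom eP.symm ∧ α ≫ ρP = ν := fun s =>
    fibGrpd_fac hS.1 ρP ν _ (by
      rw [hρP, Category.assoc, eqToHom_trans_assoc, eqToHom_refl, Category.id_comp]
      cases s
      · exact hπ₁
      · exact hπ₂)
  choose α hα _ using hα
  choose a ha _ using fun s : Bool => fibGrpd_fac hS.1 (α s ≫ ψ₁) (if s then μ₂ else μ₁) (𝟙 _) (by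
    rw [Category.id_comp, 𝒳.p.map_comp, (hα s).1, hψ]
    cases s <;> simp [hμ₁, hμ₂])
  haveI : IsIso (a true) := by
    have : IsIso (𝒳.p.map (a true)) := by rw [(ha _).1]; infer_instance
    exact fibGrpd_isIso hS.1 _
  refine ⟨a false ≫ inv (a true) ≫ ν, ?_, ?_⟩
  · rw [𝒳.p.map_comp, 𝒳.p.map_comp, Functor.map_inv]
    simp [(ha _).1]
  haveI : IsIso ψ₁ := by
    have : IsIso (𝒳.p.map ψ₁) := by rw [hψ]; infer_instance
    exact fibGrpd_isIso hS.1 _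
  have e1 : w ≫ a false ≫ α false = v ≫ w ≫ a true ≫ α true := by
    rw [← cancel_mono ψ₁]
    simp only [Category.assoc, (ha _).2]
    simpa using hμ
  have e2 : w ≫ a false = v ≫ w ≫ a true := by
    refine fibGrpd_ext hS.1 ν (by simp only [𝒳.p.map_comp, (ha _).1, hvm, Category.id_comp]) ?_
    have h3 := congrArg (· ≫ ρP) e1
    simpa only [Category.assoc, (hα _).2] using h3
  rw [reassoc_of% e2]
  simp only [IsIso.hom_inv_id_assoc]
  exact hv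

end Groth.Agent.IsoNatLib.Twist
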