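import Groth.Agent.IsoNatLib.Twist.Clean
import Groth.Agent.IsoNatLib.Twist.Doubling

/-!
# The geometry of two crossing lines over an affine scheme, packaged
-/

set_option autoImplicit false
set_option linter.style.haveILetI false
set_option backward.isDefEq.respectTransparency false
set_option backward.isDefEq.respectTransparency.types false

universe u

open CategoryTheory CategoryTheory.Limits AlgebraicGeometry Opposite
open Polynomial

namespace Groth.Agent.IsoNatLib.Twist

variable {S : Scheme.{u}}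

/-- Two lines through a section, with their punctured parts. -/
structure Crossing (T A O : Over S) (i : O ⟶ A) (D : Bool → Over S) (inc : ∀ s, D s ⟶ O) (l : A ⟶ T)
    (σ : T ⟶ A) : Prop where
  open_i : IsOpenImmersion i.left
  open_inc : ∀ s, IsOpenImmersion (inc s).left
  section_eq : σ ≫ l = 𝟙 T
  cover : Sieve.ofArrows (fun k : ULift.{u} Bool => D k.down) (fun k => inc k.down) ∈ AlgSp.J S O
  disjoint : ∀ (Z : Over S) (k k' : Bool) (a : Z ⟶ D k) (b : Z ⟶ D k'),
    a ≫ inc k = b ≫ inc k' → k = k' ∨ IsEmpty Z.left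
  line : ∀ s, ∃ (M V : Over S) (m : M ⟶ A) (t : V ⟶ M) (d : V ⟶ D s) (o : T ⟶ M),
    IsDominantSch t.left ∧ d ≫ inc s ≫ i = t ≫ m ∧ o ≫ m = σ

theorem exists_crossing {R : CommRingCat.{u}} (j₀ : Spec R ⟶ S) :
    ∃ (A O : Over S) (i : O ⟶ A) (D : Bool → Over S) (inc : ∀ s, D s ⟶ O) (l : A ⟶ Over.mk j₀)
      (σ : Over.mk j₀ ⟶ A), Crossing (Over.mk j₀) A O i D inc l σ := by
  let A : CommRingCat.{u} := CommRingCat.of ↥(axes R)
  let l₀ : Spec A ⟶ Spec R := Spec.map (CommRingCat.ofHom (algebraMap R ↥(axes R)))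
  let L : Over S := Over.mk (l₀ ≫ j₀)
  let l : L ⟶ Over.mk j₀ := Over.homMk l₀
  let D : Bool → (Spec A).Opens := fun s => PrimeSpectrum.basicOpen (coord R s)
  let O : (Spec A).Opens := D false ⊔ D true
  let W : Over S := Over.mk (O.ι ≫ L.hom)
  let i : W ⟶ L := Over.homMk O.ι
  have hle : ∀ s, D s ≤ O := fun s => by cases s; exacts [le_sup_left, le_sup_right]
  let V : Bool → Over S := fun s => Over.mk ((D s).ι ≫ L.hom)
  let inc : ∀ s, V s ⟶ W := fun s => Over.homMk ((Spec A).homOfLE (hle s)) (by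
    show (Spec A).homOfLE _ ≫ O.ι ≫ L.hom = _
    rw [Scheme.homOfLE_ι_assoc]
    rfl)
  have hinc : ∀ s, inc s ≫ i = (Over.homMk (D s).ι : V s ⟶ L) := fun s =>
    Over.OverMorphism.ext (Scheme.homOfLE_ι _ (hle s))
  have hopen : ∀ s, IsOpenImmersion (inc s).left := fun s =>
    inferInstanceAs (IsOpenImmersion ((Spec A).homOfLE (hle s)))
  let σ : Over.mk j₀ ⟶ L := Over.homMk (Spec.map (CommRingCat.ofHom (origin R))) (by
    show Spec.map _ ≫ Spec.map _ ≫ j₀ = j₀
    rw [← Spec.map_comp_assoc, ← CommRingCat.ofHom_comp, origin, RingHom.comp_assoc, proj_algebraMap,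
      show ((evalRingHom (0 : R)).comp Polynomial.C) = RingHom.id R from RingHom.ext fun r => by simp,
      CommRingCat.ofHom_id, Spec.map_id, Category.id_comp])
  have hσl : σ ≫ l = 𝟙 _ := Over.OverMorphism.ext (by
    show Spec.map _ ≫ Spec.map _ = 𝟙 (Spec R)
    rw [← Spec.map_comp, ← CommRingCat.ofHom_comp, origin, RingHom.comp_assoc, proj_algebraMap,
      show ((evalRingHom (0 : R)).comp Polynomial.C) = RingHom.id R from RingHom.ext fun r => by simp,
      CommRingCat.ofHom_id, Spec.map_id])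
  haveI : ∀ k : ULift.{u} Bool, IsOpenImmersion (inc k.down).left := fun k => hopen k.down
  refine ⟨L, W, i, V, inc, l, σ, inferInstanceAs (IsOpenImmersion O.ι), hopen, hσl, ?_, ?_, fun s => ?_⟩
  · refine AlgSpLib.ofArrows_mem_J _ fun q => ?_
    have key : ∀ (s : Bool), (q : ↥O.toScheme).1 ∈ D s → q ∈ Set.range (inc s).left := fun s hq =>
      ⟨⟨_, hq⟩, O.ι.isOpenEmbedding.injective (congrArg (fun f : V s ⟶ L => f.left ⟨_, hq⟩) (hinc s))⟩
    rcases (q : ↥O.toScheme).2 with hq | hq
    exacts [⟨⟨false⟩, key false hq⟩, ⟨⟨true⟩, key true hq⟩]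
  · intro Z k k' a b hab
    by_cases hk : k = k'
    · exact Or.inl hk
    refine Or.inr ⟨fun p => ?_⟩
    have h1 : (a ≫ inc k ≫ i).left p = (b ≫ inc k' ≫ i).left p := by
      rw [← Category.assoc, hab, Category.assoc]
    rw [hinc, hinc] at h1
    have hc : (a.left p).1 = (b.left p).1 := h1
    have h3 : (a.left p).1 ∈ PrimeSpectrum.basicOpen (coord R false * coord R true) := by
      rw [PrimeSpectrum.basicOpen_mul]
      cases k <;> cases k'
      · exact absurd rfl hk
      · exact ⟨(a.left p).2, hc ▸ (b.left p).2⟩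
      · exact ⟨hc ▸ (b.left p).2, (a.left p).2⟩
      · exact absurd rfl hk
    rw [coord_mul, PrimeSpectrum.basicOpen_zero] at h3
    exact h3
  let m₀ : Spec (CommRingCat.of R[X]) ⟶ Spec A := Spec.map (CommRingCat.ofHom (proj R s))
  let M : Over S := Over.mk (m₀ ≫ L.hom)
  let m : M ⟶ L := Over.homMk m₀
  let f := CommRingCat.ofHom (algebraMap R[X] (Localization.Away (X : R[X])))
  let T₀ : Over S := Over.mk (Spec.map f ≫ M.hom)
  let t : T₀ ⟶ M := Over.homMk (Spec.map f)
  have hrg : Set.range (Spec.map f ≫ m₀) ⊆ Set.range (D s).ι := by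
    rintro _ ⟨p, rfl⟩
    rw [Scheme.Opens.range_ι]
    show coord R s ∉ (PrimeSpectrum.comap (proj R s) (PrimeSpectrum.comap f.hom p)).asIdeal
    intro hmem
    have hu : IsUnit (algebraMap R[X] (Localization.Away (X : R[X])) X) :=
      IsLocalization.map_units _ (⟨X, Submonoid.mem_powers _⟩ : Submonoid.powers (X : R[X]))
    refine p.2.ne_top (Ideal.eq_top_of_isUnit_mem _ ?_ hu)
    simpa [f, proj_coord] using hmem
  let d : T₀ ⟶ V s := Over.homMk (IsOpenImmersion.lift (D s).ι (Spec.map f ≫ m₀) hrg) (by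
    show _ ≫ (D s).ι ≫ L.hom = _
    rw [IsOpenImmersion.lift_fac_assoc, Category.assoc]
    rfl)
  let o : Over.mk j₀ ⟶ M := Over.homMk (Spec.map (CommRingCat.ofHom (evalRingHom (0 : R)))) (by
    rw [← Over.w σ]
    show Spec.map _ ≫ Spec.map _ ≫ _ = Spec.map _ ≫ _
    rw [← Spec.map_comp_assoc, ← CommRingCat.ofHom_comp]
    congr 3
    exact RingHom.ext fun a => ev_proj R a s)
  refine ⟨M, T₀, m, t, d, o, ?_, ?_, ?_⟩
  · exact isDominantSch_spec f
      (IsLocalization.injective _ (Submonoid.powers_le.2 Polynomial.monic_X.mem_nonZeroDivisors))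
  · rw [hinc]
    exact Over.OverMorphism.ext (IsOpenImmersion.lift_fac _ _ _)
  · exact Over.OverMorphism.ext (by
      show Spec.map _ ≫ Spec.map _ = Spec.map _
      rw [← Spec.map_comp, ← CommRingCat.ofHom_comp]
      congr 2
      exact RingHom.ext fun a => ev_proj R a s)

end Groth.Agent.IsoNatLib.Twist
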