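import Groth.Agent.IsoNatLib.Twist.Doubling
import Groth.Agent.IsoNatLib.Homeo

/-!
# Extension of automorphisms read on classes over doubled schemes
-/

set_option autoImplicit false
set_option linter.style.haveILetI false
set_option backward.isDefEq.respectTransparency false
set_option backward.isDefEq.respectTransparency.types false

universe u

open CategoryTheory CategoryTheory.Limits AlgebraicGeometry Opposite FibCat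
open Groth.Agent.Stk19 Groth.Agent.Desc19

namespace Groth.Agent.IsoNatLib.Twist

variable {S : Scheme.{u}} {𝒳 𝒴 : AlgSt.Cat S}

/-- Automorphisms of objects over `L` extend from `W`. -/
def ExtAt (𝒳 : AlgSt.Cat S) {L W : Over S} (j : W ⟶ L) : Prop :=
  ∀ (η zW : 𝒳.obj) (eη : 𝒳.p.obj η = L) (eW : 𝒳.p.obj zW = W) (w h : zW ⟶ η),
    𝒳.p.map w = eqToHom eW ≫ j ≫ eqToHom eη.symm → 𝒳.p.map h = 𝒳.p.map w →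
      ∃ c : η ⟶ η, 𝒳.p.map c = 𝟙 _ ∧ w ≫ c = h

/-- Classes over the doubled scheme whose charts are isomorphic to one object are untwisted. -/
def TrivAt (𝒳 : AlgSt.Cat S) {L W : Over S} (j : W ⟶ L) : Prop :=
  ∀ (P : Over S) (ι₁ ι₂ : L ⟶ P) (π : P ⟶ L), Doubled j P ι₁ ι₂ → ι₁ ≫ π = 𝟙 L → ι₂ ≫ π = 𝟙 L →
    ∀ (x x' : 𝒳.p.Fiber P) (y : 𝒳.p.Fiber L) (μ₁ μ₂ : y.1 ⟶ x.1) (a : x'.1 ⟶ y.1),
      𝒳.p.IsHomLift ι₁ μ₁ → 𝒳.p.IsHomLift ι₂ μ₂ → 𝒳.p.IsHomLift π a → IsoNat.cls x' = IsoNat.cls x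

theorem extAt_of_trivAt (hS : Stk.IsStack (AlgSp.J S) 𝒳) {L W : Over S} (j : W ⟶ L) [IsOpenImmersion j.left]
    (h : TrivAt 𝒳 j) : ExtAt 𝒳 j := by
  intro η zW eη eW w g hw hg
  subst eη eW
  obtain rfl : j = 𝒳.p.map w := by simpa using hw.symm
  obtain ⟨P, ι₁, ι₂, hD, hdesc⟩ := exists_doubled (𝒳.p.map w)
  obtain ⟨π, hπ₁, hπ₂⟩ := hdesc (𝟙 _) (𝟙 _) rfl
  obtain ⟨c, hc, hwc⟩ := exists_extend_of hS (𝟙 η) w g (by simp [hg]) hD π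
    (hπ₁.trans (𝒳.p.map_id η).symm) (hπ₂.trans (𝒳.p.map_id η).symm)
    fun x μ₁ μ₂ x' a h₁ h₂ ha => Quotient.exact (h P ι₁ ι₂ π hD hπ₁ hπ₂ x x' ⟨η, rfl⟩ μ₁ μ₂ a
      (IsHomLift.of_fac' 𝒳.p _ _ rfl x.2 (by rw [h₁]; simp))
      (IsHomLift.of_fac' 𝒳.p _ _ rfl x.2 (by rw [h₂]; simp))
      (IsHomLift.of_fac' 𝒳.p _ _ x'.2 rfl (by rw [ha]; simp)))
  exact ⟨c, hc.trans (𝒳.p.map_id η), hwc⟩

theorem trivAt_of_extAt (hS : Stk.IsStack (AlgSp.J S) 𝒳) {L W : Over S} (j : W ⟶ L)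
    (h : ExtAt 𝒳 j) : TrivAt 𝒳 j := by
  intro P ι₁ ι₂ π hD hπ₁ hπ₂ x x' y μ₁ μ₂ a hμ₁ hμ₂ ha
  obtain ⟨x, ex⟩ := x
  obtain ⟨x', ex'⟩ := x'
  obtain ⟨y, ey⟩ := y
  subst ey
  obtain ⟨zW, w, eW, hw⟩ := fibGrpd_lift hS.1 y j
  haveI := hμ₁
  haveI := hμ₂
  haveI := ha
  have m₁ : 𝒳.p.map μ₁ = ι₁ ≫ eqToHom ex.symm := (IsHomLift.fac' 𝒳.p ι₁ μ₁).trans (by simp)
  have m₂ : 𝒳.p.map μ₂ = ι₂ ≫ eqToHom ex.symm := (IsHomLift.fac' 𝒳.p ι₂ μ₂).trans (by simp)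
  have ma : 𝒳.p.map a = eqToHom ex' ≫ π := (IsHomLift.fac' 𝒳.p π a).trans (by simp)
  obtain ⟨v, ⟨hvm, hv⟩, -⟩ := fibGrpd_fac hS.1 (w ≫ μ₂) (w ≫ μ₁) (𝟙 _) (by
    rw [Category.id_comp, 𝒳.p.map_comp, 𝒳.p.map_comp, hw, m₁, m₂]
    simp [reassoc_of% hD.sq.w])
  obtain ⟨c, hc, hwc⟩ := h y zW rfl eW w (v ≫ w) (by simp [hw]) (by rw [𝒳.p.map_comp, hvm, Category.id_comp])
  choose α hα _ using fun s : Bool => fibGrpd_fac hS.1 a (𝟙 y)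
    ((if s then ι₂ else ι₁) ≫ eqToHom ex'.symm) (by
      rw [ma, 𝒳.p.map_id]
      cases s <;> simp [hπ₁, hπ₂])
  obtain ⟨χ, hχ, -⟩ := exists_of_charts hS hD ex' ex eW (z := fun _ : Bool => y) (fun _ => rfl) α
    (fun s => if s then c ≫ μ₂ else μ₁) (fun _ => w) (fun s => by rw [(hα s).1]; simp)
    (fun s => by cases s <;> simp [m₁, m₂, hc]) (fun _ => by rw [hw]; simp) (by
      refine fibGrpd_ext hS.1 a ?_ ?_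
      · rw [𝒳.p.map_comp, 𝒳.p.map_comp, (hα false).1, (hα true).1, hw]
        simp [reassoc_of% hD.sq.w]
      · rw [Category.assoc, Category.assoc, (hα false).2, (hα true).2])
    (by
      simp only [Bool.false_eq_true, if_false, if_true]
      rw [reassoc_of% hwc]
      exact hv.symm)
  exact Quotient.sound (nonempty_iso_of_vert hS.1 (a := (⟨x', ex'⟩ : 𝒳.p.Fiber P)) (b := ⟨x, ex⟩) χ hχ)

/-- Move an arrow to objects with the same classes. -/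
theorem exists_hom_of_cls {T' T : Over S} {g : T' ⟶ T} {p p' : 𝒳.p.Fiber T'} {q q' : 𝒳.p.Fiber T}
    (f : p.1 ⟶ q.1) (hf : 𝒳.p.IsHomLift g f) (hp : IsoNat.cls p = IsoNat.cls p')
    (hq : IsoNat.cls q = IsoNat.cls q') : ∃ f' : p'.1 ⟶ q'.1, 𝒳.p.IsHomLift g f' := by
  obtain ⟨i⟩ := Quotient.exact hp
  obtain ⟨k⟩ := Quotient.exact hq
  haveI := i.inv.2
  haveI := k.hom.2
  haveI := hf
  refine ⟨i.inv.1 ≫ f ≫ k.hom.1, IsHomLift.of_fac' 𝒳.p _ _ p'.2 q'.2 ?_⟩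
  rw [𝒳.p.map_comp, 𝒳.p.map_comp, IsHomLift.fac' 𝒳.p (𝟙 T') i.inv.1, IsHomLift.fac' 𝒳.p g f,
    IsHomLift.fac' 𝒳.p (𝟙 T) k.hom.1]
  simp

theorem trivAt_of_fIso (h𝒳 : IsFibGrpd 𝒳.p) (h𝒴 : IsFibGrpd 𝒴.p) (φ : IsoNat.FIso 𝒳 𝒴) {L W : Over S}
    {j : W ⟶ L} (h : TrivAt 𝒳 j) : TrivAt 𝒴 j := by
  intro P ι₁ ι₂ π hD hπ₁ hπ₂ x x' y μ₁ μ₂ a hμ₁ hμ₂ ha
  let ψ := symmFIso φ h𝒳 h𝒴
  obtain ⟨y₁, x₁, b₁, hb₁, hy₁, hx₁⟩ := ψ.natural ι₁ y x μ₁ hμ₁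
  obtain ⟨y₂, x₂, b₂, hb₂, hy₂, hx₂⟩ := ψ.natural ι₂ y x μ₂ hμ₂
  obtain ⟨x₃, y₃, b₃, hb₃, hx₃, hy₃⟩ := ψ.natural π x' y a ha
  obtain ⟨b₂', hb₂'⟩ := exists_hom_of_cls b₂ hb₂ (hy₂.symm.trans hy₁) (hx₂.symm.trans hx₁)
  obtain ⟨b₃', hb₃'⟩ := exists_hom_of_cls b₃ hb₃ (q' := y₁) rfl (hy₃.symm.trans hy₁)
  refine (ψ.toEquiv P).injective ?_
  rw [hx₃, hx₁]
  exact h P ι₁ ι₂ π hD hπ₁ hπ₂ x₁ x₃ y₁ b₁ b₂' b₃' hb₁ hb₂' hb₃'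

end Groth.Agent.IsoNatLib.Twist
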