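import Groth.Agent.IsoNatLib.Twist.Res
import Groth.Agent.IsoNatLib.Twist.Axes
import Groth.Agent.IsoNatLib.Twist.ExtTriv

/-!
# Commutativity of automorphisms read on classes over doubled schemes with two loops
-/

set_option autoImplicit false
set_option linter.style.haveILetI false
set_option backward.isDefEq.respectTransparency false
set_option backward.isDefEq.respectTransparency.types false

universe u

open CategoryTheory CategoryTheory.Limits AlgebraicGeometry Opposite FibCat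
open Groth.Agent.Stk19 Groth.Agent.Desc19

namespace Groth.Agent.IsoNatLib.Twist

variable {S : Scheme.{u}} {𝒳 𝒴 : AlgSt.Cat S}

/-- Classes over `P` near `η` are determined by their restrictions to the two loops. -/
def AbAt {T : Over S} (η : 𝒳.p.Fiber T) {L P P' : Over S} (g : L ⟶ T) (ι₁ ι₂ : L ⟶ P)
    (q : Bool → (P' ⟶ P)) : Prop :=
  ∀ (y : 𝒳.p.Fiber L) (x x' : 𝒳.p.Fiber P) (ρ : y.1 ⟶ η.1) (μ₁ μ₂ : y.1 ⟶ x.1) (μ₁' μ₂' : y.1 ⟶ x'.1),
    𝒳.p.IsHomLift g ρ → 𝒳.p.IsHomLift ι₁ μ₁ → 𝒳.p.IsHomLift ι₂ μ₂ →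
    𝒳.p.IsHomLift ι₁ μ₁' → 𝒳.p.IsHomLift ι₂ μ₂' →
    (∀ k, ∃ (z : 𝒳.p.Fiber P') (f : z.1 ⟶ x.1) (f' : z.1 ⟶ x'.1),
      𝒳.p.IsHomLift (q k) f ∧ 𝒳.p.IsHomLift (q k) f') →
    IsoNat.cls x = IsoNat.cls x'

theorem abAt_of_fIso (h𝒳 : IsFibGrpd 𝒳.p) (h𝒴 : IsFibGrpd 𝒴.p) (φ : IsoNat.FIso 𝒳 𝒴) {T : Over S}
    {η : 𝒳.p.Fiber T} {η' : 𝒴.p.Fiber T} (hη : φ.toEquiv T (IsoNat.cls η) = IsoNat.cls η') {L P P' : Over S}
    {g : L ⟶ T} {ι₁ ι₂ : L ⟶ P} {q : Bool → (P' ⟶ P)} (h : AbAt η g ι₁ ι₂ q) : AbAt η' g ι₁ ι₂ q := by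
  intro y x x' ρ μ₁ μ₂ μ₁' μ₂' hρ h₁ h₂ h₁' h₂' hz
  let ψ := symmFIso φ h𝒳 h𝒴
  obtain ⟨y₀, η₀, b₀, hb₀, hy₀, hη₀⟩ := ψ.natural g y η' ρ hρ
  have hηψ : ψ.toEquiv T (IsoNat.cls η') = IsoNat.cls η := by
    show (φ.toEquiv T).symm _ = _
    rw [← hη, Equiv.symm_apply_apply]
  obtain ⟨ρ₀, hρ₀⟩ := exists_hom_of_cls b₀ hb₀ (p' := y₀) rfl (hη₀.symm.trans hηψ)
  let X := rep ψ x
  let X' := rep ψ x'
  have hX : ψ.toEquiv P (IsoNat.cls x) = IsoNat.cls X := (cls_rep ψ x).symm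
  have hX' : ψ.toEquiv P (IsoNat.cls x') = IsoNat.cls X' := (cls_rep ψ x').symm
  have move : ∀ {ι : L ⟶ P} (w : 𝒴.p.Fiber P) (W : 𝒳.p.Fiber P), ψ.toEquiv P (IsoNat.cls w) = IsoNat.cls W →
      ∀ μ : y.1 ⟶ w.1, 𝒴.p.IsHomLift ι μ → ∃ m : y₀.1 ⟶ W.1, 𝒳.p.IsHomLift ι m := by
    intro ι w W hW μ hμ
    obtain ⟨y₁, w₁, b, hb, hy₁, hw₁⟩ := ψ.natural ι y w μ hμ
    exact exists_hom_of_cls b hb (hy₁.symm.trans hy₀) (hw₁.symm.trans hW)
  obtain ⟨m₁, hm₁⟩ := move x X hX μ₁ h₁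
  obtain ⟨m₂, hm₂⟩ := move x X hX μ₂ h₂
  obtain ⟨m₁', hm₁'⟩ := move x' X' hX' μ₁' h₁'
  obtain ⟨m₂', hm₂'⟩ := move x' X' hX' μ₂' h₂'
  refine (ψ.toEquiv P).injective ?_
  rw [hX, hX']
  refine h y₀ X X' ρ₀ m₁ m₂ m₁' m₂' hρ₀ hm₁ hm₂ hm₁' hm₂' fun k => ?_
  obtain ⟨z, f, f', hf, hf'⟩ := hz k
  obtain ⟨z₁, x₁, b, hb, hz₁, hx₁⟩ := ψ.natural (q k) z x f hf
  obtain ⟨z₂, x₂, b', hb', hz₂, hx₂⟩ := ψ.natural (q k) z x' f' hf'
  obtain ⟨c, hc⟩ := exists_hom_of_cls b hb (p' := z₁) rfl (hx₁.symm.trans hX)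
  obtain ⟨c', hc'⟩ := exists_hom_of_cls b' hb' (p' := z₁) (hz₂.symm.trans hz₁) (hx₂.symm.trans hX')
  exact ⟨z₁, c, c', hc, hc'⟩

/-- A scheme with two loops made of doubled schemes. -/
structure Loops {A O D L W P P' : Over S} (j : O ⟶ A) (d : D ⟶ O) (κ : Bool → (A ⟶ L)) (o : Bool → (O ⟶ W))
    (jW : W ⟶ L) (ι₁ ι₂ : L ⟶ P) (ι' : Bool → (A ⟶ P')) (q : Bool → (P' ⟶ P)) : Prop where
  hL : Doubled (d ≫ j) L (κ false) (κ true)
  hW : Doubled d W (o false) (o true)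
  hP : Doubled jW P ι₁ ι₂
  hP' : Doubled j P' (ι' false) (ι' true)
  ho : ∀ k, o k ≫ jW = j ≫ κ k
  hq : ∀ k s, ι' s ≫ q k = κ k ≫ (if s then ι₂ else ι₁)

/-- Commuting of two vertical endomorphisms over an object with abelian automorphisms. -/
theorem comm_of_abelian (h : IsFibGrpd 𝒳.p) {T : Over S} {η : 𝒳.p.Fiber T} (hab : IsoNat.IsAutAbelian η)
    {z : 𝒳.obj} (r : z ⟶ η.1) {s t : z ⟶ z} (hs : 𝒳.p.map s = 𝟙 _) (ht : 𝒳.p.map t = 𝟙 _) :
    s ≫ t = t ≫ s := by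
  let Z : 𝒳.p.Fiber (𝒳.p.obj z) := ⟨z, rfl⟩
  have mkAut : ∀ u : z ⟶ z, 𝒳.p.map u = 𝟙 _ → ∃ a : Aut Z, a.hom.1 = u := by
    intro u hu
    haveI := isIso_of_map h hu
    haveI hl : 𝒳.p.IsHomLift (𝟙 (𝒳.p.obj z)) (asIso u).hom := IsHomLift.of_fac' 𝒳.p _ _ rfl rfl (by simp [hu])
    haveI := vert_inv 𝒳.p (asIso u) hl
    exact ⟨⟨Functor.Fiber.homMk 𝒳.p _ (asIso u).hom, Functor.Fiber.homMk 𝒳.p _ (asIso u).inv,
      Functor.Fiber.hom_ext (asIso u).hom_inv_id, Functor.Fiber.hom_ext (asIso u).inv_hom_id⟩, rfl⟩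
  obtain ⟨a, rfl⟩ := mkAut s hs
  obtain ⟨b, rfl⟩ := mkAut t ht
  have := congrArg (fun c : Aut Z => c.hom.1) (hab (𝒳.p.obj z) Z r b a)
  exact this

theorem abAt_of_abelian (hS : Stk.IsStack (AlgSp.J S) 𝒳) {T : Over S} {η : 𝒳.p.Fiber T}
    (hab : IsoNat.IsAutAbelian η) {A O D L W P P' : Over S} {j : O ⟶ A} {d : D ⟶ O} {κ : Bool → (A ⟶ L)}
    {o : Bool → (O ⟶ W)} {jW : W ⟶ L} {ι₁ ι₂ : L ⟶ P} {ι' : Bool → (A ⟶ P')} {q : Bool → (P' ⟶ P)}
    (C : Loops j d κ o jW ι₁ ι₂ ι' q) (g : L ⟶ T) : AbAt η g ι₁ ι₂ q := by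
  intro y x x' ρ μ₁ μ₂ μ₁' μ₂' hρ h₁ h₂ h₁' h₂' hz
  obtain ⟨y, ey⟩ := y
  subst ey
  have h := hS.1
  haveI := h₁
  haveI := h₂
  haveI := h₁'
  haveI := h₂'
  have m₁ : 𝒳.p.map μ₁ = ι₁ ≫ eqToHom x.2.symm := (IsHomLift.fac' 𝒳.p ι₁ μ₁).trans (by simp)
  have m₂ : 𝒳.p.map μ₂ = ι₂ ≫ eqToHom x.2.symm := (IsHomLift.fac' 𝒳.p ι₂ μ₂).trans (by simp)
  have m₁' : 𝒳.p.map μ₁' = ι₁ ≫ eqToHom x'.2.symm := (IsHomLift.fac' 𝒳.p ι₁ μ₁').trans (by simp)
  have m₂' : 𝒳.p.map μ₂' = ι₂ ≫ eqToHom x'.2.symm := (IsHomLift.fac' 𝒳.p ι₂ μ₂').trans (by simp)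
  obtain ⟨zW, w, eW, hw⟩ := fibGrpd_lift h y jW
  obtain ⟨v, ⟨hvm, hv⟩, -⟩ := fibGrpd_fac h (w ≫ μ₂) (w ≫ μ₁) (𝟙 _) (by
    rw [Category.id_comp, 𝒳.p.map_comp, 𝒳.p.map_comp, hw, m₁, m₂]
    simp [reassoc_of% C.hP.sq.w])
  obtain ⟨v', ⟨hvm', hv'⟩, -⟩ := fibGrpd_fac h (w ≫ μ₂') (w ≫ μ₁') (𝟙 _) (by
    rw [Category.id_comp, 𝒳.p.map_comp, 𝒳.p.map_comp, hw, m₁', m₂']
    simp [reassoc_of% C.hP.sq.w])
  choose yk e eyk he using fun k => fibGrpd_lift h y (κ k)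
  choose zO ω eO hω using fun k => fibGrpd_lift h (yk k) (j ≫ eqToHom (eyk k).symm)
  choose u hu _ using fun k => fibGrpd_fac h w (ω k ≫ e k) (eqToHom (eO k) ≫ o k ≫ eqToHom eW.symm) (by
    rw [𝒳.p.map_comp, hω, he, hw]
    simp [C.ho])
  choose r hr using fun k => exists_res h (u k) hvm
  choose r' hr' using fun k => exists_res h (u k) hvm'
  -- the difference of the two cocycles extends to each chart
  have hc : ∀ k, ∃ (c : yk k ⟶ yk k) (c' : zO k ⟶ zO k),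
      𝒳.p.map c = 𝟙 _ ∧ IsRes (ω k) c c' ∧ r' k = c' ≫ r k := by
    intro k
    obtain ⟨z, f, f', hf, hf'⟩ := hz k
    haveI := hf
    haveI := hf'
    have mf : 𝒳.p.map f = eqToHom z.2 ≫ q k ≫ eqToHom x.2.symm := IsHomLift.fac' 𝒳.p (q k) f
    have mf' : 𝒳.p.map f' = eqToHom z.2 ≫ q k ≫ eqToHom x'.2.symm := IsHomLift.fac' 𝒳.p (q k) f'
    choose ν hν _ using fun s : Bool => fibGrpd_fac h f (e k ≫ if s then μ₂ else μ₁)
      (eqToHom (eyk k) ≫ ι' s ≫ eqToHom z.2.symm) (by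
        rw [mf, 𝒳.p.map_comp, he]
        have := C.hq k s
        cases s <;> simp [m₁, m₂, reassoc_of% this])
    choose a ha _ using fun s : Bool => fibGrpd_fac h (e k ≫ if s then μ₂' else μ₁') (ν s ≫ f') (𝟙 _) (by
      rw [Category.id_comp, 𝒳.p.map_comp, 𝒳.p.map_comp, (hν s).1, mf', he]
      have := C.hq k s
      cases s <;> simp [m₁', m₂', reassoc_of% this])
    choose a' ha' using fun s => exists_res h (ω k) (ha s).1
    have e1 : ω k ≫ ν false = r k ≫ ω k ≫ ν true := by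
      refine fibGrpd_ext h f ?_ ?_
      · simp only [𝒳.p.map_comp, (hr k).map_eq, (hν false).1, (hν true).1, hω, Category.id_comp]
        simp [reassoc_of% C.hP'.sq.w]
      · simp only [Category.assoc, (hν false).2, (hν true).2, Bool.false_eq_true, if_false, if_true]
        rw [← reassoc_of% (hu k).2, ← reassoc_of% (hu k).2, ← hv, ← reassoc_of% (hr k).comm]
    have e2 : a' false ≫ r' k = r k ≫ a' true := by
      refine fibGrpd_ext h (u k ≫ w ≫ μ₂') ?_ ?_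
      · simp [(ha' false).map_eq, (ha' true).map_eq, (hr k).map_eq, (hr' k).map_eq]
      · have h3 := congrArg (· ≫ f') e1
        simp only [Category.assoc, ← (ha false).2, ← (ha true).2, Bool.false_eq_true, if_false, if_true] at h3
        rw [← reassoc_of% (ha' false).comm, ← reassoc_of% (ha' true).comm, ← reassoc_of% (hu k).2,
          ← reassoc_of% (hu k).2, ← hv', ← reassoc_of% (hr' k).comm] at h3
        simpa only [Category.assoc] using h3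
    haveI := isIso_of_map h (ha false).1
    haveI := isIso_of_map h (ha' false).map_eq
    refine ⟨inv (a false) ≫ a true, inv (a' false) ≫ a' true, ?_, (ha' false).inv.comp (ha' true), ?_⟩
    · rw [𝒳.p.map_comp, Functor.map_inv]
      simp [(ha false).1, (ha true).1]
    · rw [Category.assoc, IsIso.eq_inv_comp, e2]
      exact comm_of_abelian h hab (ω k ≫ e k ≫ ρ) (hr k).map_eq (ha' true).map_eq
  choose c c' hcm hcc hr'c using hc
  -- the extensions glue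
  obtain ⟨zD, δ₀, eD, hδ₀⟩ := fibGrpd_lift h (zO false) (d ≫ eqToHom (eO false).symm)
  obtain ⟨δ₁, ⟨hδ₁, hδ₁u⟩, -⟩ := fibGrpd_fac h (u true) (δ₀ ≫ u false) (eqToHom eD ≫ d ≫ eqToHom (eO true).symm) (by
    rw [(hu true).1, 𝒳.p.map_comp, (hu false).1, hδ₀]
    simp [reassoc_of% C.hW.sq.w])
  let δ : ∀ k, zD ⟶ zO k := fun k => match k with
    | false => δ₀
    | true => δ₁
  have hδ : ∀ k, 𝒳.p.map (δ k) = eqToHom eD ≫ d ≫ eqToHom (eO k).symm := fun k => by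
    cases k
    exacts [hδ₀, hδ₁]
  haveI := isIso_of_map h hvm
  have hagree : δ false ≫ ω false ≫ c false ≫ e false = δ true ≫ ω true ≫ c true ≫ e true := by
    have h4 : δ false ≫ c' false ≫ u false = δ true ≫ c' true ≫ u true := by
      rw [← cancel_mono v]
      simp only [Category.assoc, ← (hr false).comm, ← (hr true).comm, ← reassoc_of% (hr'c false),
        ← reassoc_of% (hr'c true), (hr' false).comm, (hr' true).comm]
      show δ₀ ≫ u false ≫ v' = δ₁ ≫ u true ≫ v'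
      rw [reassoc_of% hδ₁u]
    have h5 := congrArg (· ≫ w) h4
    simp only [Category.assoc, (hu _).2] at h5
    rwa [reassoc_of% (hcc false).comm, reassoc_of% (hcc true).comm] at h5
  obtain ⟨cc, hccm, -, hce⟩ := exists_of_charts hS C.hL (x := y) (y := y) rfl rfl eD (z := yk) eyk e
    (fun k => c k ≫ e k) (fun k => δ k ≫ ω k)
    (fun k => by rw [he]; cases k <;> simp) (fun k => by rw [𝒳.p.map_comp, hcm, he]; cases k <;> simp)
    (fun k => by rw [𝒳.p.map_comp, hω, hδ]; simp)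
    (by
      simp only [Category.assoc]
      show δ₀ ≫ ω false ≫ e false = δ₁ ≫ ω true ≫ e true
      rw [← (hu false).2, ← (hu true).2, reassoc_of% hδ₁u])
    (by simpa only [Category.assoc] using hagree)
  rw [eqToHom_refl] at hccm
  have hvw : v' ≫ w = v ≫ w ≫ cc := by
    have hcov := C.hW.cover
    haveI : IsIso (eqToHom eW.symm) := inferInstance
    subst eW
    refine hom_ext_of_cover hS (fun k : ULift.{u} Bool => if k.down then o true else o false) hcov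
      (fun k : ULift.{u} Bool => u k.down) (fun k => eO k.down) (fun k => ?_) _ _ ?_ fun k => ?_
    · obtain ⟨_ | _⟩ := k <;> simp [(hu _).1]
    · simp [hvm, hvm', hccm]
    · rw [← reassoc_of% (hr' k.down).comm, hr'c, ← reassoc_of% (hr k.down).comm, (hu _).2,
        reassoc_of% (hu k.down).2, hce, Category.assoc]
      rw [reassoc_of% (comm_of_abelian h hab (ω k.down ≫ e k.down ≫ ρ) (hcc k.down).map_eq (hr k.down).map_eq)]
      rw [reassoc_of% (hcc k.down).comm]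
  obtain ⟨χ, hχ, -, -⟩ := exists_of_charts hS C.hP x.2 x'.2 eW (z := fun _ : Bool => y) (fun _ => rfl)
    (fun s => if s then μ₂ else μ₁) (fun s => if s then cc ≫ μ₂' else μ₁')
    (fun s => if s then v ≫ w else w)
    (fun s => by cases s <;> simp [m₁, m₂]) (fun s => by cases s <;> simp [m₁', m₂', hccm])
    (fun s => by cases s <;> simp [hw, hvm])
    (by simpa using hv.symm)
    (by
      simp only [Bool.false_eq_true, if_false, if_true, Category.assoc]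
      rw [← hv', ← reassoc_of% hvw])
  exact Quotient.sound (nonempty_iso_of_vert h (a := x) (b := x') χ hχ)

end Groth.Agent.IsoNatLib.Twist
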