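import Groth.Agent.IsoNatLib.Twist.Ext
import Groth.Agent.IsoNatLib.Twist.Doubling

/-!
# Restriction of vertical automorphisms along arrows
-/

set_option autoImplicit false
set_option linter.style.haveILetI false
set_option backward.isDefEq.respectTransparency false
set_option backward.isDefEq.respectTransparency.types false

universe u

open CategoryTheory CategoryTheory.Limits AlgebraicGeometry Opposite FibCat
open Groth.Agent.Stk19 Groth.Agent.Desc19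

namespace Groth.Agent.IsoNatLib.Twist

variable {S : Scheme.{u}} {𝒳 : AlgSt.Cat S}

/-- `φ'` is the restriction of the automorphism `φ` along `ν`. -/
structure IsRes {z x : 𝒳.obj} (ν : z ⟶ x) (φ : x ⟶ x) (φ' : z ⟶ z) : Prop where
  map_eq : 𝒳.p.map φ' = 𝟙 _
  comm : φ' ≫ ν = ν ≫ φ

variable (h : IsFibGrpd 𝒳.p) {z x : 𝒳.obj} {ν : z ⟶ x} {φ ψ : x ⟶ x} {φ' φ'' ψ' : z ⟶ z}

include h in
theorem IsRes.unique (h₁ : IsRes ν φ φ') (h₂ : IsRes ν φ φ'') : φ' = φ'' :=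
  fibGrpd_ext h ν (h₁.map_eq.trans h₂.map_eq.symm) (h₁.comm.trans h₂.comm.symm)

theorem IsRes.id : IsRes ν (𝟙 x) (𝟙 z) := ⟨𝒳.p.map_id z, by simp⟩

theorem IsRes.comp (h₁ : IsRes ν φ φ') (h₂ : IsRes ν ψ ψ') : IsRes ν (φ ≫ ψ) (φ' ≫ ψ') :=
  ⟨by rw [𝒳.p.map_comp, h₁.map_eq, h₂.map_eq, Category.comp_id],
    by rw [Category.assoc, h₂.comm, reassoc_of% h₁.comm]⟩

theorem IsRes.inv [IsIso φ] [IsIso φ'] (h₁ : IsRes ν φ φ') : IsRes ν (CategoryTheory.inv φ) (CategoryTheory.inv φ') :=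
  ⟨by rw [Functor.map_inv]; simp [h₁.map_eq], by
    rw [IsIso.inv_comp_eq, reassoc_of% h₁.comm, IsIso.hom_inv_id, Category.comp_id]⟩

theorem IsRes.trans {w : 𝒳.obj} {μ : w ⟶ z} {χ : w ⟶ w} (h₁ : IsRes ν φ φ') (h₂ : IsRes μ φ' χ) :
    IsRes (μ ≫ ν) φ χ :=
  ⟨h₂.map_eq, by rw [reassoc_of% h₂.comm, h₁.comm, Category.assoc]⟩

include h in
theorem IsRes.of_comp {w : 𝒳.obj} {μ : w ⟶ z} {χ : w ⟶ w} (h₁ : IsRes ν φ φ') (h₂ : IsRes (μ ≫ ν) φ χ) :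
    IsRes μ φ' χ := by
  refine ⟨h₂.map_eq, fibGrpd_ext h ν ?_ ?_⟩
  · rw [𝒳.p.map_comp, 𝒳.p.map_comp, h₂.map_eq, h₁.map_eq]; simp
  · rw [Category.assoc, h₂.comm, Category.assoc, Category.assoc, h₁.comm]

include h in
theorem exists_res (ν : z ⟶ x) {φ : x ⟶ x} (hφ : 𝒳.p.map φ = 𝟙 _) : ∃ φ', IsRes ν φ φ' := by
  obtain ⟨φ', h1, h2⟩ := exists_restrict_aut h ν φ hφ
  exact ⟨φ', h1, h2⟩

include h in
theorem isIso_of_map {φ : x ⟶ x} (hφ : 𝒳.p.map φ = 𝟙 _) : IsIso φ := by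
  have : IsIso (𝒳.p.map φ) := by rw [hφ]; infer_instance
  exact fibGrpd_isIso h _

include h in
theorem IsRes.eq_of_dominant (hd : AlgSt.RepByAlgSpWith AlgSp.IsSeparatedMor (FibCat.diag (toSelf 𝒳)))
    (hφ : 𝒳.p.map φ = 𝟙 _) (hψ : 𝒳.p.map ψ = 𝟙 _) (hν : IsDominantSch (𝒳.p.map ν).left)
    (h₁ : IsRes ν φ φ') (h₂ : IsRes ν ψ φ') : φ = ψ :=
  hom_ext_of_dominant h hd φ ψ (hφ.trans hψ.symm) ν hν (h₁.comm.symm.trans h₂.comm)

end Groth.Agent.IsoNatLib.Twist
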