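import Groth.Agent.IsoNatLib.Twist.Abelian

/-!
# Classes over two loops determine the commutators of automorphisms
-/

set_option autoImplicit false
set_option linter.style.haveILetI false
set_option backward.isDefEq.respectTransparency false
set_option backward.isDefEq.respectTransparency.types false

universe u

open CategoryTheory CategoryTheory.Limits AlgebraicGeometry Opposite FibCat
open Groth.Agent.Stk19 Groth.Agent.Desc19

namespace Groth.Agent.IsoNatLib.Twist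

variable {S : Scheme.{u}} {𝒳 : AlgSt.Cat S}

theorem exists_loops {T A O D : Over S} (i : O ⟶ A) [IsOpenImmersion i.left] (d : D ⟶ O)
    [IsOpenImmersion d.left] (l : A ⟶ T) :
    ∃ (L W P P' : Over S) (κ : Bool → (A ⟶ L)) (o : Bool → (O ⟶ W)) (jW : W ⟶ L) (ι₁ ι₂ : L ⟶ P)
      (ι' : Bool → (A ⟶ P')) (q : Bool → (P' ⟶ P)) (g : L ⟶ T) (π : P ⟶ T),
      Loops i d κ o jW ι₁ ι₂ ι' q ∧ (∀ k, κ k ≫ g = l) ∧ ι₁ ≫ π = g ∧ ι₂ ≫ π = g := by
  haveI : IsOpenImmersion (d ≫ i).left := by rw [Over.comp_left]; infer_instance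
  obtain ⟨L, κ₀, κ₁, hL, hdesc⟩ := exists_doubled (d ≫ i)
  haveI := hL.open₁
  haveI := hL.open₂
  let κ : Bool → (A ⟶ L) := fun k => match k with
    | false => κ₀
    | true => κ₁
  haveI hκ : ∀ k, IsOpenImmersion (i ≫ κ k).left := fun k => by
    rw [Over.comp_left]
    cases k <;> dsimp only [κ] <;> infer_instance
  haveI : IsOpenImmersion (i ≫ κ₀).left := hκ false
  haveI : IsOpenImmersion (i ≫ κ₁).left := hκ true
  let U : L.left.Opens := (i ≫ κ₀).left.opensRange ⊔ (i ≫ κ₁).left.opensRange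
  let W : Over S := Over.mk (U.ι ≫ L.hom)
  let jW : W ⟶ L := Over.homMk U.ι
  haveI : IsOpenImmersion jW.left := inferInstanceAs (IsOpenImmersion U.ι)
  haveI : Mono jW := (Over.forget S).mono_of_mono_map (inferInstanceAs (Mono U.ι))
  have hr : ∀ k, Set.range (i ≫ κ k).left ⊆ Set.range U.ι := fun k => by
    rintro _ ⟨a, rfl⟩
    rw [Scheme.Opens.range_ι]
    cases k
    · exact Or.inl ⟨a, rfl⟩
    · exact Or.inr ⟨a, rfl⟩
  obtain ⟨o, ho⟩ : ∃ o : Bool → (O ⟶ W), ∀ k, o k ≫ jW = i ≫ κ k :=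
    ⟨fun k => Over.homMk (IsOpenImmersion.lift U.ι (i ≫ κ k).left (hr k)) (by
      show _ ≫ U.ι ≫ L.hom = _
      rw [IsOpenImmersion.lift_fac_assoc]
      exact Over.w (i ≫ κ k)),
    fun k => Over.OverMorphism.ext (IsOpenImmersion.lift_fac _ _ _)⟩
  haveI hoo : ∀ k, IsOpenImmersion (o k).left := fun k => by
    haveI : IsOpenImmersion ((o k).left ≫ U.ι) := by
      rw [show (o k).left ≫ U.ι = (i ≫ κ k).left from congrArg (fun f : O ⟶ L => f.left) (ho k)]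
      exact hκ k
    exact IsOpenImmersion.of_comp _ U.ι
  have hmono : ∀ k, Mono (o k) := fun k => (Over.forget S).mono_of_mono_map (inferInstanceAs (Mono (o k).left))
  haveI := hL.mono₁
  haveI := hL.mono₂
  haveI : Mono i := (Over.forget S).mono_of_mono_map (inferInstanceAs (Mono i.left))
  haveI : Mono (d ≫ i) := (Over.forget S).mono_of_mono_map (inferInstanceAs (Mono (d ≫ i).left))
  have hcomm : d ≫ o false = d ≫ o true := by
    rw [← cancel_mono jW]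
    simpa only [Category.assoc, ho] using hL.sq.w
  have hsq : IsPullback d d (o false) (o true) := by
    have hcond : ∀ s : PullbackCone (o false) (o true), (s.fst ≫ i) ≫ κ₀ = (s.snd ≫ i) ≫ κ₁ := fun s => by
      rw [Category.assoc, Category.assoc, show i ≫ κ₀ = o false ≫ jW from (ho false).symm,
        show i ≫ κ₁ = o true ≫ jW from (ho true).symm, reassoc_of% s.condition]
    refine ⟨⟨hcomm⟩, ⟨PullbackCone.IsLimit.mk _ (fun s => hL.sq.lift _ _ (hcond s)) (fun s => ?_)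
      (fun s => ?_) (fun s m h1 _ => ?_)⟩⟩
    · rw [← cancel_mono i, Category.assoc, hL.sq.lift_fst]
    · rw [← cancel_mono i, Category.assoc, hL.sq.lift_snd]
    · rw [← cancel_mono (d ≫ i), hL.sq.lift_fst, reassoc_of% h1]
  have hWcov : Sieve.ofArrows (fun _ : ULift.{u} Bool => O) (fun k => if k.down then o true else o false) ∈
      AlgSp.J S W := by
    haveI : ∀ k : ULift.{u} Bool, IsOpenImmersion (if k.down then o true else o false).left := fun k => by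
      obtain ⟨_ | _⟩ := k
      · exact hoo false
      · exact hoo true
    refine AlgSpLib.ofArrows_mem_J _ fun q => ?_
    rcases (q : ↥U.toScheme).2 with ⟨a, ha⟩ | ⟨a, ha⟩
    · exact ⟨⟨false⟩, a, U.ι.isOpenEmbedding.injective
        ((congrArg (fun f : O ⟶ L => f.left a) (ho false)).trans ha)⟩
    · exact ⟨⟨true⟩, a, U.ι.isOpenEmbedding.injective
        ((congrArg (fun f : O ⟶ L => f.left a) (ho true)).trans ha)⟩
  have hW : Doubled d W (o false) (o true) := ⟨hmono _, hmono _, hsq, hWcov, hoo _, hoo _⟩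
  obtain ⟨g, hg₀, hg₁⟩ := hdesc l l rfl
  obtain ⟨P, ι₁, ι₂, hP, hdP⟩ := exists_doubled jW
  obtain ⟨π, hπ₁, hπ₂⟩ := hdP g g rfl
  obtain ⟨P', j₀, j₁, hP', hdP'⟩ := exists_doubled i
  choose q hq₀ hq₁ using fun k => hdP' (κ k ≫ ι₁) (κ k ≫ ι₂) (by
    rw [← reassoc_of% (ho k), hP.sq.w, reassoc_of% (ho k)])
  refine ⟨L, W, P, P', κ, o, jW, ι₁, ι₂, fun s => match s with | false => j₀ | true => j₁, q, g, π,
    ⟨hL, hW, hP, hP', ho, fun k s => ?_⟩, fun k => ?_, hπ₁, hπ₂⟩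
  · cases s
    · exact hq₀ k
    · exact hq₁ k
  · cases k
    · exact hg₀
    · exact hg₁

theorem comm_of_abAt (hS : Stk.IsStack (AlgSp.J S) 𝒳)
    (hd : AlgSt.RepByAlgSpWith AlgSp.IsSeparatedMor (FibCat.diag (toSelf 𝒳))) {T A O : Over S} {i : O ⟶ A}
    {D : Bool → Over S} {inc : ∀ s, D s ⟶ O} {l : A ⟶ T} {σ : T ⟶ A} (C : Crossing T A O i D inc l σ)
    {L W P P' : Over S} {κ : Bool → (A ⟶ L)} {o : Bool → (O ⟶ W)} {jW : W ⟶ L} {ι₁ ι₂ : L ⟶ P}
    {ι' : Bool → (A ⟶ P')} {q : Bool → (P' ⟶ P)} {g : L ⟶ T} {π : P ⟶ T}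
    (C' : Loops i (inc false) κ o jW ι₁ ι₂ ι' q) (hg : ∀ k, κ k ≫ g = l) (hπ₁ : ι₁ ≫ π = g) (hπ₂ : ι₂ ≫ π = g)
    {η : 𝒳.p.Fiber T} (H : AbAt η g ι₁ ι₂ q) {s t : η.1 ⟶ η.1} (hs : 𝒳.p.map s = 𝟙 _)
    (ht : 𝒳.p.map t = 𝟙 _) : s ≫ t = t ≫ s := by
  obtain ⟨η, eη⟩ := η
  subst eη
  have h := hS.1
  obtain ⟨y, ρ, ey, hρ⟩ := fibGrpd_lift h η g
  subst ey
  rw [eqToHom_refl, Category.id_comp] at hρ
  subst hρ
  obtain ⟨zA, να, eA, hνα⟩ := fibGrpd_lift h η l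
  subst eA
  rw [eqToHom_refl, Category.id_comp] at hνα
  subst hνα
  obtain ⟨zO, ω, eO, hω⟩ := fibGrpd_lift h zA i
  subst eO
  rw [eqToHom_refl, Category.id_comp] at hω
  subst hω
  obtain ⟨zW, w, eW, hw⟩ := fibGrpd_lift h y jW
  subst eW
  rw [eqToHom_refl, Category.id_comp] at hw
  subst hw
  choose e he using fun k => (fibGrpd_fac h ρ να (κ k) (hg k)).exists
  choose u hu using fun k => (fibGrpd_fac h w (ω ≫ e k) (o k) (by
    rw [𝒳.p.map_comp, (he k).1, C'.ho])).exists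
  choose z δ eD hδ using fun k => fibGrpd_lift h zO (inc k)
  have hδu : δ false ≫ u false = δ false ≫ u true := by
    refine fibGrpd_ext h (w ≫ ρ) ?_ ?_
    · simp only [𝒳.p.map_comp, (hu _).1, hδ, Category.assoc, C'.hW.sq.w]
    · simp only [Category.assoc, reassoc_of% (hu false).2, reassoc_of% (hu true).2, (he _).2]
  have hδe : δ false ≫ ω ≫ e false = δ false ≫ ω ≫ e true := by
    rw [← (hu false).2, ← (hu true).2, reassoc_of% hδu]
  -- restrictions of the automorphisms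
  obtain ⟨sA, hsA⟩ := exists_res h να hs
  obtain ⟨tA, htA⟩ := exists_res h να ht
  obtain ⟨sO, hsO⟩ := exists_res h ω hsA.map_eq
  obtain ⟨tO, htO⟩ := exists_res h ω htA.map_eq
  haveI := isIso_of_map h hs
  haveI := isIso_of_map h hsA.map_eq
  haveI := isIso_of_map h hsO.map_eq
  choose sD hsD using fun k => exists_res h (δ k) hsO.map_eq
  haveI : ∀ k, IsIso (sD k) := fun k => isIso_of_map h (hsD k).map_eq
  -- the cocycle on one chart
  haveI hopen : ∀ k, IsOpenImmersion (𝒳.p.map (δ k)).left := fun k => by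
    haveI := C.open_inc k
    rw [hδ, Over.comp_left]
    infer_instance
  obtain ⟨c₀, hc₀m, hc₀⟩ := glue_disjoint hS (x := zO) (y := zO) rfl (fun k : ULift.{u} Bool => z k.down)
    (fun k => δ k.down) (fun k => δ k.down ≫ if k.down then tO else 𝟙 zO)
    (fun k => by rw [𝒳.p.map_comp]; obtain ⟨_ | _⟩ := k <;> simp [htO.map_eq])
    (fun k => (Over.forget S).mono_of_mono_map (inferInstanceAs (Mono (𝒳.p.map (δ k.down)).left)))
    (by
      refine GrothendieckTopology.superset_covering _ ?_ C.cover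
      rw [Sieve.ofArrows, Sieve.generate_le_iff]
      rintro V f ⟨k⟩
      exact ⟨_, eqToHom (eD k.down).symm, 𝒳.p.map (δ k.down), Presieve.ofArrows.mk k, by rw [hδ]; simp⟩)
    (fun Z k k' a b hab => by
      rw [hδ, hδ, ← Category.assoc, ← Category.assoc] at hab
      rcases C.disjoint Z _ _ _ _ hab with h' | h'
      · exact Or.inl (ULift.ext _ _ h')
      · exact Or.inr h')
  rw [eqToHom_refl] at hc₀m
  have c₀f : δ false ≫ c₀ = δ false := by simpa using hc₀ ⟨false⟩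
  have c₀t : δ true ≫ c₀ = δ true ≫ tO := by simpa using hc₀ ⟨true⟩
  let c : Bool → (zO ⟶ zO) := fun k => if k then sO ≫ c₀ ≫ inv sO else c₀
  have hcm : ∀ k, 𝒳.p.map (c k) = 𝟙 _ := fun k => by cases k <;> simp [c, hc₀m, hsO.map_eq]
  have cf : ∀ k, δ false ≫ c k = δ false := fun k => by
    cases k
    · exact c₀f
    · show δ false ≫ sO ≫ c₀ ≫ inv sO = δ false
      rw [← reassoc_of% (hsD false).comm, reassoc_of% c₀f]
      rw [reassoc_of% (hsD false).comm, IsIso.hom_inv_id, Category.comp_id]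
  -- the two cocycles on the overlap
  have hv : ∀ c' : Bool → (zO ⟶ zO), (∀ k, 𝒳.p.map (c' k) = 𝟙 _) → (∀ k, δ false ≫ c' k = δ false) →
      ∃ v : zW ⟶ zW, 𝒳.p.map v = 𝟙 _ ∧ ∀ k, u k ≫ v = c' k ≫ u k := by
    intro c' hm hf
    obtain ⟨v, hv, -, hve⟩ := exists_of_charts hS C'.hW (x := zW) (y := zW) rfl rfl (eD false)
      (z := fun _ => zO) (fun _ => rfl) u (fun k => c' k ≫ u k) (fun _ => δ false)
      (fun k => by rw [(hu k).1]; cases k <;> simp) (fun k => by rw [𝒳.p.map_comp, hm, (hu k).1]; cases k <;> simp)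
      (fun _ => by rw [hδ]; simp) hδu (by rw [reassoc_of% (hf false), reassoc_of% (hf true), hδu])
    exact ⟨v, by simpa using hv, hve⟩
  obtain ⟨v, hvm, hvu⟩ := hv c hcm cf
  obtain ⟨v', hvm', hvu'⟩ := hv (fun _ => c₀) (fun _ => hc₀m) (fun _ => c₀f)
  haveI := C'.hP.mono₁
  haveI := C'.hP.mono₂
  obtain ⟨x, hx, μ₁, μ₂, hμ₁, hμ₂, hμ⟩ :=
    exists_twist hS π ι₁ ι₂ ρ w hπ₁ hπ₂ C'.hP.sq C'.hP.cover v hvm
  obtain ⟨x', hx', μ₁', μ₂', hμ₁', hμ₂', hμ'⟩ :=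
    exists_twist hS π ι₁ ι₂ ρ w hπ₁ hπ₂ C'.hP.sq C'.hP.cover v' hvm'
  -- the two objects agree on the two halves
  have hz : ∀ k, ∃ (z' : 𝒳.p.Fiber P') (f : z'.1 ⟶ x) (f' : z'.1 ⟶ x'),
      𝒳.p.IsHomLift (q k) f ∧ 𝒳.p.IsHomLift (q k) f' := by
    intro k
    obtain ⟨z₁, f, ez, hf⟩ := fibGrpd_lift h x (q k ≫ eqToHom hx.symm)
    obtain ⟨z₁', f', ez', hf'⟩ := fibGrpd_lift h x' (q k ≫ eqToHom hx'.symm)
    choose ν hν using fun b : Bool => (fibGrpd_fac h f (e k ≫ if b then μ₂ else μ₁)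
      (ι' b ≫ eqToHom ez.symm) (by
        rw [hf, 𝒳.p.map_comp, (he k).1]
        have := C'.hq k b
        cases b <;> simp [hμ₁, hμ₂, reassoc_of% this])).exists
    choose ν' hν' using fun b : Bool => (fibGrpd_fac h f' (e k ≫ if b then μ₂' else μ₁')
      (ι' b ≫ eqToHom ez'.symm) (by
        rw [hf', 𝒳.p.map_comp, (he k).1]
        have := C'.hq k b
        cases b <;> simp [hμ₁', hμ₂', reassoc_of% this])).exists
    have sw : ω ≫ ν false = c k ≫ ω ≫ ν true := by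
      refine fibGrpd_ext h f ?_ ?_
      · simp only [𝒳.p.map_comp, (hν _).1, hcm, Category.id_comp, reassoc_of% C'.hP'.sq.w]
      · simp only [Category.assoc, (hν _).2, Bool.false_eq_true, if_false, if_true]
        rw [← reassoc_of% (hu k).2, hμ, reassoc_of% (hvu k), ← reassoc_of% (hu k).2]
    have sw' : ω ≫ ν' false = c₀ ≫ ω ≫ ν' true := by
      refine fibGrpd_ext h f' ?_ ?_
      · simp only [𝒳.p.map_comp, (hν' _).1, hc₀m, Category.id_comp, reassoc_of% C'.hP'.sq.w]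
      · simp only [Category.assoc, (hν' _).2, Bool.false_eq_true, if_false, if_true]
        rw [← reassoc_of% (hu k).2, hμ', reassoc_of% (hvu' k), ← reassoc_of% (hu k).2]
    let a : zA ⟶ zA := if k then sA else 𝟙 zA
    let aO : zO ⟶ zO := if k then sO else 𝟙 zO
    have ha : IsRes ω a aO := by
      cases k
      · exact IsRes.id
      · exact hsO
    have ham : 𝒳.p.map a = 𝟙 _ := by cases k <;> simp [a, hsA.map_eq]
    obtain ⟨χ, hχ, -, -⟩ := exists_of_charts hS C'.hP' (x := z₁) (y := z₁') ez ez' (zW := zO) rfl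
      (z := fun _ => zA) (fun _ => rfl) ν (fun b => a ≫ ν' b) (fun b => if b then c k ≫ ω else ω)
      (fun b => by rw [(hν b).1]; cases b <;> simp)
      (fun b => by rw [𝒳.p.map_comp, ham, (hν' b).1]; cases b <;> simp)
      (fun b => by cases b <;> simp [hcm])
      (by simpa using sw)
      (by
        simp only [Bool.false_eq_true, if_false, if_true, Category.assoc]
        rw [← reassoc_of% ha.comm, ← reassoc_of% ha.comm, sw']
        cases k
        · simp [aO, c]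
        · simp [aO, c])
    refine ⟨⟨z₁, ez⟩, f, χ ≫ f', IsHomLift.of_fac' 𝒳.p _ _ ez hx (by simp [hf]),
      IsHomLift.of_fac' 𝒳.p _ _ ez hx' ?_⟩
    rw [𝒳.p.map_comp, hχ, hf']
    simp
  obtain ⟨ψ⟩ := Quotient.exact (H ⟨y, rfl⟩ ⟨x, hx⟩ ⟨x', hx'⟩ ρ μ₁ μ₂ μ₁' μ₂'
    (IsHomLift.of_fac' 𝒳.p _ _ rfl rfl (by simp)) (IsHomLift.of_fac' 𝒳.p _ _ rfl hx (by simp [hμ₁]))
    (IsHomLift.of_fac' 𝒳.p _ _ rfl hx (by simp [hμ₂])) (IsHomLift.of_fac' 𝒳.p _ _ rfl hx' (by simp [hμ₁']))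
    (IsHomLift.of_fac' 𝒳.p _ _ rfl hx' (by simp [hμ₂'])) hz)
  let ψ₁ : x ⟶ x' := ψ.hom.1
  haveI : 𝒳.p.IsHomLift (𝟙 P) ψ₁ := ψ.hom.2
  have hψ : 𝒳.p.map ψ₁ = eqToHom (hx.trans hx'.symm) := by
    rw [IsHomLift.fac' 𝒳.p (𝟙 P) ψ₁]; simp
  obtain ⟨a, ha₁, ha₂⟩ := (fibGrpd_fac h μ₁' (μ₁ ≫ ψ₁) (𝟙 _) (by
    rw [Category.id_comp, 𝒳.p.map_comp, hμ₁, hμ₁', hψ]; simp)).exists
  obtain ⟨b, hb₁, hb₂⟩ := (fibGrpd_fac h μ₂' (μ₂ ≫ ψ₁) (𝟙 _) (by
    rw [Category.id_comp, 𝒳.p.map_comp, hμ₂, hμ₂', hψ]; simp)).exists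
  choose Pa hPa using fun k => exists_res h (e k) ha₁
  choose Pb hPb using fun k => exists_res h (e k) hb₁
  choose Qa hQa using fun k => exists_res h ω (hPa k).map_eq
  choose Qb hQb using fun k => exists_res h ω (hPb k).map_eq
  have hrel : ∀ k, Qa k ≫ c₀ = c k ≫ Qb k := by
    intro k
    refine fibGrpd_ext h (u k ≫ w ≫ μ₂') ?_ ?_
    · simp [(hQa k).map_eq, (hQb k).map_eq, hc₀m, hcm]
    · have h3 : u k ≫ w ≫ μ₁ ≫ ψ₁ = u k ≫ v ≫ w ≫ μ₂ ≫ ψ₁ := by rw [reassoc_of% hμ]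
      rw [← ha₂, ← hb₂, reassoc_of% (hu k).2, reassoc_of% (hvu k), reassoc_of% (hu k).2,
        ← reassoc_of% (hPa k).comm, ← reassoc_of% (hPb k).comm, ← reassoc_of% (hQa k).comm,
        ← reassoc_of% (hQb k).comm, ← reassoc_of% (hu k).2, hμ', reassoc_of% (hvu' k)] at h3
      rw [← reassoc_of% (hu k).2] at h3
      simpa only [Category.assoc] using h3
  choose Da hDa using fun p : Bool × Bool => exists_res h (δ p.1) (hQa p.2).map_eq
  let MA : Bool → (zA ⟶ zA) := fun k => if k then sA ≫ tA ≫ inv sA else tA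
  let M₀ : Bool → (η ⟶ η) := fun k => if k then s ≫ t ≫ inv s else t
  have hMA : ∀ k, 𝒳.p.map (MA k) = 𝟙 _ := fun k => by cases k <;> simp [MA, hsA.map_eq, htA.map_eq]
  have hF : ∀ k, δ false ≫ ω ≫ Pa k = δ false ≫ ω ≫ Pb k := by
    intro k
    rw [← (hQa k).comm, ← (hQb k).comm]
    have h3 : δ false ≫ Qa k ≫ c₀ = δ false ≫ c k ≫ Qb k := by rw [hrel]
    rw [← reassoc_of% (hDa (false, k)).comm, c₀f, (hDa (false, k)).comm, reassoc_of% (cf k)] at h3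
    rw [reassoc_of% h3]
  have hT : ∀ k, δ true ≫ ω ≫ Pa k ≫ tA = δ true ≫ ω ≫ MA k ≫ Pb k := by
    intro k
    have ct : δ true ≫ c k = δ true ≫ (if k then sO ≫ tO ≫ inv sO else tO) := by
      cases k
      · simpa [c] using c₀t
      · simp only [c, if_true]
        rw [← reassoc_of% (hsD true).comm, reassoc_of% c₀t, reassoc_of% (hsD true).comm]
    have hMO : IsRes ω (MA k) (if k then sO ≫ tO ≫ inv sO else tO) := by
      cases k
      · exact htO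
      · exact hsO.comp (htO.comp hsO.inv)
    have h3 : δ true ≫ Qa k ≫ c₀ = δ true ≫ c k ≫ Qb k := by rw [hrel]
    rw [← reassoc_of% (hDa (true, k)).comm, c₀t, reassoc_of% (hDa (true, k)).comm, reassoc_of% ct] at h3
    rw [← reassoc_of% (hQa k).comm, ← htO.comm, reassoc_of% h3, (hQb k).comm, reassoc_of% hMO.comm]
  have hE : δ false ≫ ω ≫ Pa false = δ false ≫ ω ≫ Pa true := by
    refine fibGrpd_ext h να ?_ ?_
    · simp [(hPa _).map_eq]
    · rw [← (he false).2]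
      conv_rhs => rw [(he false).2, ← (he true).2]
      simp only [Category.assoc, reassoc_of% (hPa false).comm, reassoc_of% (hPa true).comm]
      rw [reassoc_of% hδe]
  -- transport to the origin
  obtain ⟨ω₀, hω₀m, hω₀⟩ := (fibGrpd_fac h να (𝟙 η) σ (by rw [C.section_eq, 𝒳.p.map_id])).exists
  have horig : ∀ (k : Bool) (F G : zA ⟶ zA), 𝒳.p.map F = 𝟙 _ → 𝒳.p.map G = 𝟙 _ →
      δ k ≫ ω ≫ F = δ k ≫ ω ≫ G → ω₀ ≫ F = ω₀ ≫ G := by
    intro k F G hF' hG' hFG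
    obtain ⟨M, V, m, tm, d, om, hdom, hdm, hom⟩ := C.line k
    obtain ⟨zM, em, eM, hem⟩ := fibGrpd_lift h zA m
    subst eM
    rw [eqToHom_refl, Category.id_comp] at hem
    subst hem
    obtain ⟨zV, tV, eV, htV⟩ := fibGrpd_lift h zM tm
    subst eV
    rw [eqToHom_refl, Category.id_comp] at htV
    subst htV
    obtain ⟨γ', -, hγ⟩ := (fibGrpd_fac h (δ k ≫ ω) (tV ≫ em) (d ≫ eqToHom (eD k).symm) (by
      rw [𝒳.p.map_comp, 𝒳.p.map_comp, hδ]; simp [hdm])).exists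
    obtain ⟨ω', -, hω'⟩ := (fibGrpd_fac h em ω₀ om (by rw [hω₀m, hom])).exists
    have := hom_ext_of_dominant h hd (em ≫ F) (em ≫ G) (by simp [hF', hG']) tV hdom (by
      rw [← reassoc_of% hγ, ← reassoc_of% hγ, hFG])
    rw [← hω', Category.assoc, Category.assoc, this]
  have hres : ∀ {f : η ⟶ η} {fA : zA ⟶ zA}, IsRes να f fA → 𝒳.p.map f = 𝟙 _ → IsRes ω₀ fA f := by
    intro f fA hfA hf
    refine ⟨hf, fibGrpd_ext h να ?_ ?_⟩
    · simp [hf, hfA.map_eq]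
    · rw [Category.assoc, hω₀, Category.comp_id, Category.assoc, hfA.comm, reassoc_of% hω₀]
  choose Ca hCa using fun k => exists_res h ω₀ (hPa k).map_eq
  choose Cb hCb using fun k => exists_res h ω₀ (hPb k).map_eq
  have eqres : ∀ {F G : zA ⟶ zA} {f₀ g₀ : η ⟶ η}, IsRes ω₀ F f₀ → IsRes ω₀ G g₀ → ω₀ ≫ F = ω₀ ≫ G → f₀ = g₀ :=
    fun {F G f₀ g₀} h1 h2 h3 =>
      fibGrpd_ext h ω₀ (h1.map_eq.trans h2.map_eq.symm) (h1.comm.trans (h3.trans h2.comm.symm))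
  have eab : ∀ k, Ca k = Cb k := fun k =>
    eqres (hCa k) (hCb k) (horig false _ _ (hPa k).map_eq (hPb k).map_eq (hF k))
  have e01 : Ca false = Ca true :=
    eqres (hCa _) (hCa _) (horig false _ _ (hPa _).map_eq (hPa _).map_eq hE)
  have htt : IsRes ω₀ tA t := hres htA ht
  have hMres : ∀ k, IsRes ω₀ (MA k) (M₀ k) := fun k => by
    cases k
    · exact htt
    · exact (hres hsA hs).comp (htt.comp (hres hsA hs).inv)
  have emain : ∀ k, Ca k ≫ t = M₀ k ≫ Ca k := fun k => by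
    conv_rhs => rw [eab k]
    exact eqres ((hCa k).comp htt) ((hMres k).comp (hCb k))
      (horig true _ _ (by simp [(hPa k).map_eq, htA.map_eq]) (by simp [hMA, (hPb k).map_eq]) (hT k))
  haveI := isIso_of_map h (hCa true).map_eq
  have key : t = s ≫ t ≫ inv s := by
    rw [← cancel_mono (Ca true)]
    show _ = M₀ true ≫ Ca true
    rw [← emain true, ← e01, emain false]
    rfl
  conv_rhs => rw [key]
  simp

end Groth.Agent.IsoNatLib.Twist

namespace Groth.Agent.IsoNatLib.Twist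

variable {S : Scheme.{u}} {𝒳 𝒴 : AlgSt.Cat S}

/-- Abelian automorphisms are inherited along a morphism of objects. -/
theorem isAutAbelian_of_hom {T T' : Over S} {η : 𝒳.p.Fiber T} {x : 𝒳.p.Fiber T'} (f : x.1 ⟶ η.1)
    (h : IsoNat.IsAutAbelian η) : IsoNat.IsAutAbelian x :=
  fun T'' y r s t => h T'' y (r ≫ f) s t

theorem isAutAbelian_of_fIso (h𝒳 : Stk.IsStack (AlgSp.J S) 𝒳) (h𝒴 : Stk.IsStack (AlgSp.J S) 𝒴)
    (hd : AlgSt.RepByAlgSpWith AlgSp.IsSeparatedMor (FibCat.diag (toSelf 𝒴))) (φ : IsoNat.FIso 𝒳 𝒴)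
    {T : Over S} {η : 𝒳.p.Fiber T} {η' : 𝒴.p.Fiber T} (hη : φ.toEquiv T (IsoNat.cls η) = IsoNat.cls η')
    (hab : IsoNat.IsAutAbelian η) : IsoNat.IsAutAbelian η' := by
  intro T' x r a b
  suffices key : b.hom.1 ≫ a.hom.1 = a.hom.1 ≫ b.hom.1 by
    exact Iso.ext (Functor.Fiber.hom_ext key)
  obtain ⟨x, ex⟩ := x
  subst ex
  let X : 𝒴.p.Fiber (𝒴.p.obj x) := ⟨x, rfl⟩
  have hmap : ∀ c : Aut X, 𝒴.p.map c.hom.1 = 𝟙 _ := fun c => by
    haveI : 𝒴.p.IsHomLift (𝟙 (𝒴.p.obj x)) c.hom.1 := c.hom.2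
    rw [IsHomLift.fac' 𝒴.p (𝟙 (𝒴.p.obj x)) c.hom.1]
    simp
  let s : x ⟶ x := b.hom.1
  let t : x ⟶ x := a.hom.1
  have hs : 𝒴.p.map s = 𝟙 _ := hmap b
  have ht : 𝒴.p.map t = 𝟙 _ := hmap a
  show s ≫ t = t ≫ s
  let 𝒰 := (𝒴.p.obj x).left.affineCover
  let c : ∀ k, Over.mk (𝒰.f k ≫ (𝒴.p.obj x).hom) ⟶ 𝒴.p.obj x := fun k => Over.homMk (𝒰.f k)
  haveI : ∀ k, IsOpenImmersion (c k).left := fun k => inferInstanceAs (IsOpenImmersion (𝒰.f k))
  choose z μ ez hμ using fun k => fibGrpd_lift h𝒴.1 x (c k)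
  refine hom_ext_of_cover h𝒴 c (AlgSpLib.ofArrows_mem_J _ fun q => by
      obtain ⟨k, y, hy⟩ := 𝒰.exists_eq q
      exact ⟨k, y, hy⟩) μ ez hμ _ _ (by simp [hs, ht]) fun k => ?_
  obtain ⟨sk, hsk⟩ := exists_res h𝒴.1 (μ k) hs
  obtain ⟨tk, htk⟩ := exists_res h𝒴.1 (μ k) ht
  have key : sk ≫ tk = tk ≫ sk := by
    let ψ := symmFIso φ h𝒳.1 h𝒴.1
    haveI : 𝒴.p.IsHomLift (eqToHom (ez k).symm ≫ 𝒴.p.map (μ k ≫ r) ≫ eqToHom η'.2) (μ k ≫ r) :=
      IsHomLift.of_fac' 𝒴.p _ _ (ez k) η'.2 (by simp)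
    obtain ⟨z₀, η₀, b₀, -, hz₀, hη₀⟩ := ψ.natural _ ⟨z k, ez k⟩ η' (μ k ≫ r) this
    have hη₀' : IsoNat.cls η₀ = IsoNat.cls η := by
      rw [← hη₀]
      show (φ.toEquiv T).symm _ = _
      rw [← hη, Equiv.symm_apply_apply]
    obtain ⟨f⟩ := nonempty_hom_of_cls_eq hη₀'
    have hz : φ.toEquiv _ (IsoNat.cls z₀) = IsoNat.cls (⟨z k, ez k⟩ : 𝒴.p.Fiber _) := by
      rw [← hz₀]
      exact (φ.toEquiv _).apply_symm_apply _
    obtain ⟨A, O, i, D, inc, l, σ, C⟩ := exists_crossing (S := S) (𝒰.f k ≫ (𝒴.p.obj x).hom)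
    haveI := C.open_i
    haveI := C.open_inc false
    obtain ⟨L, W, P, P', κ, o, jW, ι₁, ι₂, ι', q, g, π, C', hg, hπ₁, hπ₂⟩ := exists_loops i (inc false) l
    exact comm_of_abAt h𝒴 hd C C' hg hπ₁ hπ₂ (abAt_of_fIso h𝒳.1 h𝒴.1 φ hz
      (abAt_of_abelian h𝒳 (isAutAbelian_of_hom (b₀ ≫ f) hab) C' g)) hsk.map_eq htk.map_eq
  rw [← reassoc_of% hsk.comm, ← htk.comm, ← reassoc_of% htk.comm, ← hsk.comm, reassoc_of% key]

end Groth.Agent.IsoNatLib.Twist
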