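import Groth.Agent.Stk19b.EndTrans

/-!
# Arrows into a stack with separated diagonal are determined on a scheme-theoretically dense part
-/

set_option autoImplicit false
set_option linter.style.haveILetI false
set_option backward.isDefEq.respectTransparency false
set_option backward.isDefEq.respectTransparency.types false

universe u

open CategoryTheory CategoryTheory.Limits AlgebraicGeometry Opposite FibCat
open Groth.Agent.Stk19 Groth.Agent.Desc19 Groth.Agent.Stk19b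

namespace Groth.Agent.IsoNatLib.Twist

variable {S : Scheme.{u}} {𝒳 : AlgSt.Cat S}

/-- `t` factors through no proper closed subscheme of its target. -/
def IsDominantSch {A B : Scheme.{u}} (t : A ⟶ B) : Prop :=
  ∀ ⦃E : Scheme.{u}⦄ (i : E ⟶ B) [IsClosedImmersion i] (l : A ⟶ E), l ≫ i = t → IsIso i

/-- Sections of a separated space agreeing after a dominant map agree. -/
theorem sec_eq_of_dominant {G : AlgSp.Sp S} {T : Over S} {q : G ⟶ (AlgSp.yon S).obj T}
    (hc : AlgSp.RepWith @IsClosedImmersion (pullback.diagonal q))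
    (s e : (AlgSp.yon S).obj T ⟶ G) (hs : s ≫ q = 𝟙 _) (he : e ≫ q = 𝟙 _) {T' : Over S} (t : T' ⟶ T)
    (ht : IsDominantSch t.left) (hte : (AlgSp.yon S).map t ≫ s = (AlgSp.yon S).map t ≫ e) : s = e := by
  let ξ : (AlgSp.yon S).obj T ⟶ pullback.diagonalObj q := pullback.lift s e (hs.trans he.symm)
  have sqE := hc.1.isPullback ξ
  have hcl : IsClosedImmersion (hc.1.snd ξ).left := hc.2 _ _ _ sqE
  obtain ⟨l, hl'⟩ := (AlgSp.yon S).map_surjective (sqE.lift ((AlgSp.yon S).map t ≫ s) ((AlgSp.yon S).map t) (by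
      apply pullback.hom_ext
      · simp only [ξ, Category.assoc, pullback.diagonal_fst, Category.comp_id]
        erw [pullback.lift_fst]
      · simp only [ξ, Category.assoc, pullback.diagonal_snd, Category.comp_id]
        erw [pullback.lift_snd]
        exact hte))
  have hl : l ≫ hc.1.snd ξ = t := (AlgSp.yon S).map_injective (by rw [Functor.map_comp, hl', sqE.lift_snd])
  haveI : IsIso ((Over.forget S).map (hc.1.snd ξ)) := ht (hc.1.snd ξ).left l.left (congrArg CommaMorphism.left hl)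
  haveI : IsIso (hc.1.snd ξ) := isIso_of_reflects_iso _ (Over.forget S)
  have h1 := congrArg (· ≫ pullback.fst q q) sqE.w
  have h2 := congrArg (· ≫ pullback.snd q q) sqE.w
  simp only [Category.assoc, ξ, pullback.lift_fst, pullback.lift_snd, pullback.diagonal_fst,
    pullback.diagonal_snd, Category.comp_id] at h1 h2
  exact (cancel_epi ((AlgSp.yon S).map (hc.1.snd ξ))).1 (h1.symm.trans h2)

/-- A vertical automorphism trivial on a dominant part is trivial. -/
theorem aut_eq_id_of_dominant (h : IsFibGrpd 𝒳.p)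
    (hs : AlgSt.RepByAlgSpWith AlgSp.IsSeparatedMor (FibCat.diag (toSelf 𝒳)))
    {b r : 𝒳.obj} (φ : b ⟶ b) (hφ : 𝒳.p.map φ = 𝟙 _) (ν : r ⟶ b)
    (hν : IsDominantSch (𝒳.p.map ν).left) (hνφ : ν ≫ φ = ν) : φ = 𝟙 b := by
  let T := 𝒳.p.obj b
  obtain ⟨y, i, hi⟩ := exists_classifying (U := T) h b rfl
  let top : (overCat T).obj := Over.mk (𝟙 T)
  let q := inertiaToBase (toSelf 𝒳)
  haveI : IsIso φ := by
    have : IsIso (𝒳.p.map φ) := by rw [hφ]; infer_instance
    exact fibGrpd_isIso h _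
  obtain ⟨G, e, he, hG⟩ := inertia_with_of_diag hs T y
  let z₁ : (fp y q).obj := fpMk top (⟨b, asIso φ, hφ⟩ : InertiaObj (toSelf 𝒳)) i hi
  let z₂ : (fp y q).obj := fpMk top (⟨b, Iso.refl b, 𝒳.p.map_id b⟩ : InertiaObj (toSelf 𝒳)) i hi
  obtain ⟨s₁, hs₁, ⟨η₁⟩⟩ := exists_sec e he z₁
  obtain ⟨s₂, hs₂, ⟨η₂⟩⟩ := exists_sec e he z₂
  have hs₁' := hs₁.trans ((AlgSp.yon S).map_id T)
  have hs₂' := hs₂.trans ((AlgSp.yon S).map_id T)
  have hsec : s₁ = s₂ := by
    let t : 𝒳.p.obj r ⟶ T := 𝒳.p.map ν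
    refine sec_eq_of_dominant hG s₁ s₂ hs₁' hs₂' t hν ?_
    have hγ : ∀ γ : (AlgSp.yon S).obj T ⟶ G.obj,
        γ ≫ AlgSt.spMapOfOver (BasedFunctor.comp e (fpFst y q)) = 𝟙 _ →
        ((AlgSp.yon S).map t ≫ γ) ≫ AlgSt.spMapOfOver (BasedFunctor.comp e (fpFst y q)) = (AlgSp.yon S).map t :=
      fun γ h => by rw [Category.assoc, h, Category.comp_id]
    have triv : ∀ (γ : (AlgSp.yon S).obj T ⟶ G.obj)
        (_ : γ ≫ AlgSt.spMapOfOver (BasedFunctor.comp e (fpFst y q)) = 𝟙 _) (ψ : b ≅ b) (hψ : 𝒳.p.map ψ.hom = 𝟙 _)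
        (η : e.obj ⟨T, GrothendieckTopology.uliftYonedaEquiv.{u + 1} (AlgSp.J S) γ⟩ ≅
          fpMk top (⟨b, ψ, hψ⟩ : InertiaObj (toSelf 𝒳)) i hi),
        ν ≫ ψ.hom = ν →
        (e.obj ⟨_, GrothendieckTopology.uliftYonedaEquiv.{u + 1} (AlgSp.J S) ((AlgSp.yon S).map t ≫ γ)⟩).obj.snd.aut.hom =
          𝟙 _ := by
      intro γ hγ₀ ψ hψ η hfix
      let w₀ := e.obj ⟨_, GrothendieckTopology.uliftYonedaEquiv.{u + 1} (AlgSp.J S) ((AlgSp.yon S).map t ≫ γ)⟩
      let M := e.map (yonedaElt t γ) ≫ η.hom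
      let w : w₀.obj.snd.pt ⟶ b := M.hom.snd.hom
      have hc : w₀.obj.snd.aut.hom ≫ w = w ≫ ψ.hom := M.hom.snd.comm
      have hM : M.hom.fst.left = eqToHom (show w₀.obj.fst.left = _ from e.w_obj _) ≫ t := by
        have h1 : M.hom.fst.left ≫ 𝟙 T = w₀.obj.fst.hom := Over.w M.hom.fst
        exact (Category.comp_id _).symm.trans <| h1.trans (sec_fst_hom e _ (hγ γ hγ₀) _)
      have hw : 𝒳.p.map w = eqToHom ((fp_base_eq w₀).trans (e.w_obj _)) ≫ t := by
        show (inertia (toSelf 𝒳)).p.map M.hom.snd = _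
        rw [fp_map_snd M, show (overCat T).p.map M.hom.fst = M.hom.fst.left from rfl, hM]
        simp [t]
      obtain ⟨χ, ⟨-, hχ⟩, -⟩ := fibGrpd_fac h ν w (eqToHom ((fp_base_eq w₀).trans (e.w_obj _))) hw.symm
      refine fibGrpd_ext h w ?_ ?_
      · rw [show 𝒳.p.map w₀.obj.snd.aut.hom = 𝟙 _ from w₀.obj.snd.map_aut, 𝒳.p.map_id]
      · rw [Category.id_comp, hc, ← hχ, Category.assoc, hfix]
    refine sec_eq_of_aut_trivial he t _ _ (hγ _ hs₁') (hγ _ hs₂') ?_ ?_
    · exact triv s₁ hs₁' (asIso φ) hφ η₁ hνφ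
    · exact triv s₂ hs₂' (Iso.refl b) (𝒳.p.map_id b) η₂ (Category.comp_id _)
  let η₂' : e.obj ⟨_, GrothendieckTopology.uliftYonedaEquiv.{u + 1} (AlgSp.J S) s₁⟩ ≅ z₂ :=
    eqToIso (congrArg (fun s => e.obj ⟨_, GrothendieckTopology.uliftYonedaEquiv.{u + 1} (AlgSp.J S) s⟩) hsec) ≪≫ η₂
  let k : z₁.obj.snd ≅ z₂.obj.snd := (fpSnd y q).toFunctor.mapIso (η₁.symm ≪≫ η₂')
  have hc : φ ≫ k.hom.hom = k.hom.hom ≫ 𝟙 b := k.hom.comm
  have : IsIso k.hom.hom := inferInstanceAs (IsIso (InertiaObj.forget.map k.hom))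
  exact (cancel_mono (k.hom.hom : b ⟶ b)).1 (hc.trans ((Category.comp_id _).trans (Category.id_comp _).symm))

/-- Two arrows with the same image agreeing on a dominant part are equal. -/
theorem hom_ext_of_dominant (h : IsFibGrpd 𝒳.p)
    (hs : AlgSt.RepByAlgSpWith AlgSp.IsSeparatedMor (FibCat.diag (toSelf 𝒳)))
    {z y r : 𝒳.obj} (f₁ f₂ : z ⟶ y) (hf : 𝒳.p.map f₁ = 𝒳.p.map f₂) (ν : r ⟶ z)
    (hν : IsDominantSch (𝒳.p.map ν).left) (he : ν ≫ f₁ = ν ≫ f₂) : f₁ = f₂ := by
  obtain ⟨χ, ⟨hχm, hχ⟩, -⟩ := fibGrpd_fac h f₁ f₂ (𝟙 _) ((Category.id_comp _).trans hf)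
  have h1 : ν ≫ χ = ν := fibGrpd_ext h f₁ (by rw [𝒳.p.map_comp, hχm, Category.comp_id])
    (by rw [Category.assoc, hχ, he])
  rw [← hχ, aut_eq_id_of_dominant h hs χ hχm ν hν h1, Category.id_comp]

/-- An injective ring map gives a dominant map of spectra. -/
theorem isDominantSch_spec {A B : CommRingCat.{u}} (f : A ⟶ B) (hf : Function.Injective f.hom) :
    IsDominantSch (Spec.map f) := by
  intro E i _ l hl
  haveI : IsAffine E := isAffine_of_isAffineHom i
  have hsurj : Function.Surjective i.appTop.hom :=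
    Scheme.Hom.app_surjective i ⊤ (isAffineOpen_top _)
  have hinj : Function.Injective i.appTop.hom := by
    have h1 : i.appTop ≫ l.appTop = (Spec.map f).appTop := by rw [← Scheme.Hom.comp_appTop, hl]
    have h2 : Function.Injective (Spec.map f).appTop.hom := by
      have e := Scheme.ΓSpecIso_naturality f
      intro x y hxy
      apply (Scheme.ΓSpecIso A).commRingCatIsoToRingEquiv.injective
      apply hf
      have hx := congrArg (fun k => k.hom x) e
      have hy := congrArg (fun k => k.hom y) e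
      simp only [CommRingCat.comp_apply] at hx hy
      exact hx.symm.trans ((congrArg _ hxy).trans hy)
    intro x y hxy
    apply h2
    rw [← h1]
    exact congrArg l.appTop.hom hxy
  haveI : IsIso i.appTop := by
    rw [ConcreteCategory.isIso_iff_bijective]
    exact ⟨hinj, hsurj⟩
  exact ((MorphismProperty.isomorphisms Scheme.{u}).arrow_mk_iso_iff (arrowIsoSpecΓOfIsAffine i)).2
    (show IsIso (Spec.map i.appTop) from inferInstance)

end Groth.Agent.IsoNatLib.Twist
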