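import Groth.Agent.Stk19b.ModSt.OpenRank
import Groth.Agent.Stk19b.OpenSub.Basic
import Groth.Prelude.Def_W4c2isonaturalstkIso

/-!
# Open subfunctors of the presheaf of isomorphism classes give open substacks
-/

set_option autoImplicit false
set_option linter.style.haveILetI false
set_option backward.isDefEq.respectTransparency false
set_option backward.isDefEq.respectTransparency.types false

universe u

open CategoryTheory CategoryTheory.Limits AlgebraicGeometry Opposite FibCat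
open Groth.Agent.Stk19 Groth.Agent.Desc19

namespace Groth.Agent.IsoNatLib.Twist

variable {S : Scheme.{u}} {𝒴 : AlgSt.Cat S}

theorem isOpenSubstack_of_openSubfunctor (h𝒴 : AlgSt.IsAlgStack Scheme.fppfPrecoverage 𝒴)
    (W : ∀ T : Over S, Set (IsoNat.IsoCl 𝒴 T))
    (hWpull : ∀ (T' T : Over S) (g : T' ⟶ T) (x' : 𝒴.p.Fiber T') (x : 𝒴.p.Fiber T) (a : x'.1 ⟶ x.1),
      𝒴.p.IsHomLift g a → IsoNat.cls x ∈ W T → IsoNat.cls x' ∈ W T')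
    (hWopen : ∀ (T : Over S) (x : 𝒴.p.Fiber T), ∃ V : T.left.Opens,
      ∀ (T' : Over S) (g : T' ⟶ T) (x' : 𝒴.p.Fiber T') (a : x'.1 ⟶ x.1), 𝒴.p.IsHomLift g a →
        (IsoNat.cls x' ∈ W T' ↔ ∃ g' : T'.left ⟶ ↑V, g' ≫ V.ι = g.left)) :
    AlgSt.IsOpenSubstack 𝒴 (fun η => IsoNat.cls (⟨η, rfl⟩ : 𝒴.p.Fiber (𝒴.p.obj η)) ∈ W (𝒴.p.obj η))
      Scheme.fppfPrecoverage := by
  let Q : 𝒴.obj → Prop := fun η => IsoNat.cls (⟨η, rfl⟩ : 𝒴.p.Fiber (𝒴.p.obj η)) ∈ W (𝒴.p.obj η)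
  have hQ : ∀ ⦃a b : 𝒴.obj⦄ (_ : a ⟶ b), Q b → Q a := fun a b φ hb =>
    hWpull _ _ (𝒴.p.map φ) ⟨a, rfl⟩ ⟨b, rfl⟩ φ (IsHomLift.map 𝒴.p φ) hb
  have h' : ∀ (z : 𝒴.obj) (T : Over S) (e : 𝒴.p.obj z = T),
      Q z ↔ IsoNat.cls (⟨z, e⟩ : 𝒴.p.Fiber T) ∈ W T := fun z T e => by subst e; rfl
  have hW : ∀ (U : Over S) (y : overCat U ⥤ᵇ 𝒴), ∃ O : U.left.Opens, ∀ a : (overCat U).obj,
      Q (y.obj a) ↔ ∀ k, a.hom.left k ∈ O := by
    intro U y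
    obtain ⟨V, hV⟩ := hWopen U ⟨y.obj (Over.mk (𝟙 U)), y.w_obj _⟩
    refine ⟨V, fun a => ?_⟩
    have hlift : 𝒴.p.IsHomLift a.hom (toTop y a) :=
      IsHomLift.of_fac' 𝒴.p _ _ (y.w_obj a) (y.w_obj (Over.mk (𝟙 U))) (toTop_map y a)
    refine ((h' _ a.left (y.w_obj a)).trans (hV a.left a.hom ⟨y.obj a, y.w_obj a⟩ (toTop y a) hlift)).trans ?_
    refine ⟨fun ⟨g', hg⟩ k => ?_, fun h => ?_⟩
    · rw [← hg, Scheme.Hom.comp_apply]
      exact (g' k).2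
    · have hr : Set.range a.hom.left ⊆ Set.range V.ι := by
        rintro _ ⟨k, rfl⟩
        rw [Scheme.Opens.range_ι]
        exact h k
      exact ⟨IsOpenImmersion.lift V.ι a.hom.left hr, IsOpenImmersion.lift_fac _ _ _⟩
  have hopen := Stk19b.ModStk.isOpenImm_subIncl_of_chart h𝒴.isStack.1 hQ hW
  exact ⟨⟨fun e h => hQ e.inv h⟩,
    isAlgStack_of_rep1 (Stk19b.fibGrpd_fullSub h𝒴.isStack.1 hQ) h𝒴 _ (repByAlgSp1_of_with hopen), hopen⟩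

end Groth.Agent.IsoNatLib.Twist
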