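import Groth.Agent.IsoNatLib.Twist.ExtTriv
import Groth.Agent.Stk19b.PointLift
import Groth.Agent.Stk19b.DMFaithful
import Groth.Agent.Stk19.AlgSt.DescentSp
import Groth.Agent.Stk19.AlgSt.InertiaSep
import Groth.Agent.AlgSpLib.ValuativeDVRRefined
import Groth.Agent.S10327
import Mathlib.RingTheory.DiscreteValuationRing.Basic

/-!
# Properness of the inertia and extension of automorphisms over discrete valuation rings
-/

set_option autoImplicit false
set_option linter.style.haveILetI false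
set_option backward.isDefEq.respectTransparency false
set_option backward.isDefEq.respectTransparency.types false

universe u

open CategoryTheory CategoryTheory.Limits AlgebraicGeometry Opposite FibCat
open Groth.Agent.Stk19 Groth.Agent.Desc19 Groth.Agent.Stk19b

namespace Groth.Agent.IsoNatLib.Twist

variable {S : Scheme.{u}} {𝒳 : AlgSt.Cat S}

/-- The generic point of a valuation ring over the base. -/
noncomputable def genPt (A K : Type u) [CommRing A] [Field K] [Algebra A K] (str : Spec (CommRingCat.of A) ⟶ S) :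
    Over.mk (Spec.map (CommRingCat.ofHom (algebraMap A K)) ≫ str) ⟶ Over.mk str :=
  Over.homMk (Spec.map (CommRingCat.ofHom (algebraMap A K))) rfl

theorem isOpenImmersion_genPt (A K : Type u) [CommRing A] [IsDomain A] [IsDiscreteValuationRing A] [Field K]
    [Algebra A K] [IsFractionRing A K] (str : Spec (CommRingCat.of A) ⟶ S) :
    IsOpenImmersion (genPt A K str).left := by
  obtain ⟨ϖ, hϖ⟩ := IsDiscreteValuationRing.exists_irreducible A
  haveI : IsLocalization.Away ϖ K := by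
    refine { map_units := ?_, surj := ?_, exists_of_eq := ?_ }
    · rintro ⟨_, k, rfl⟩
      exact (isUnit_iff_ne_zero).2 ((map_ne_zero_iff _ (IsFractionRing.injective A K)).2 (pow_ne_zero k hϖ.ne_zero))
    · intro z
      obtain ⟨⟨a, b⟩, hab⟩ := IsLocalization.surj (nonZeroDivisors A) z
      obtain ⟨k, w, hbw⟩ := IsDiscreteValuationRing.eq_unit_mul_pow_irreducible (nonZeroDivisors.ne_zero b.2) hϖ
      refine ⟨(a * ↑w⁻¹, ⟨ϖ ^ k, k, rfl⟩), ?_⟩
      simp only at hab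
      rw [hbw, map_mul] at hab
      show z * algebraMap A K (ϖ ^ k) = algebraMap A K (a * ↑w⁻¹)
      rw [map_mul, ← hab, mul_comm (algebraMap A K ↑w), ← mul_assoc, mul_assoc _ (algebraMap A K ↑w), ← map_mul]
      simp
    · intro x y h
      exact ⟨1, by rw [IsFractionRing.injective A K h]⟩
  exact IsOpenImmersion.of_isLocalization ϖ

/-- Automorphisms extend over discrete valuation rings. -/
def ExtDvr (𝒳 : AlgSt.Cat S) : Prop :=
  ∀ (A K : Type u) [CommRing A] [IsDomain A] [IsDiscreteValuationRing A] [Field K] [Algebra A K]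
    [IsFractionRing A K] (str : Spec (CommRingCat.of A) ⟶ S), ExtAt 𝒳 (genPt A K str)

section Space

variable {U : Over S} {G : AlgSp.Sp S} {y : overCat U ⥤ᵇ 𝒳}
  {e : AlgSt.ofSp G ⥤ᵇ fp y (inertiaToBase (toSelf 𝒳))}


/-- Every object of the fibre product comes from a section, vertically. -/
theorem exists_sec' {q : inertia (toSelf 𝒳) ⥤ᵇ 𝒳} (e : AlgSt.ofSp G ⥤ᵇ fp y q) (he : IsEquivOver e)
    (z : (fp y q).obj) :
    ∃ γ : (AlgSp.yon S).obj z.obj.fst.left ⟶ G,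
      γ ≫ AlgSt.spMapOfOver (BasedFunctor.comp e (fpFst y q)) = (AlgSp.yon S).map z.obj.fst.hom ∧
        ∃ i : e.obj ⟨_, (GrothendieckTopology.uliftYonedaEquiv.{u + 1} (AlgSp.J S)) γ⟩ ≅ z, (fp y q).p.map i.inv = eqToHom (e.w_obj ⟨_, (GrothendieckTopology.uliftYonedaEquiv.{u + 1} (AlgSp.J S)) γ⟩).symm := by
  obtain ⟨⟨V, s⟩, η, hη⟩ := (EqvData.of_isEquivOver he).surj z
  haveI := hη
  have hV : V = z.obj.fst.left :=
    (e.w_obj ⟨V, s⟩).symm.trans (IsHomLift.domain_eq (fp y q).p (𝟙 ((fp y q).p.obj z)) η.hom)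
  subst hV
  let eq0 := congrArg (fun s => e.obj ⟨z.obj.fst.left, s⟩) (Equiv.apply_symm_apply (GrothendieckTopology.uliftYonedaEquiv.{u + 1} (AlgSp.J S)) s)
  refine ⟨(GrothendieckTopology.uliftYonedaEquiv.{u + 1} (AlgSp.J S)).symm s, ?_, eqToIso eq0 ≪≫ η, ?_⟩
  · refine (GrothendieckTopology.uliftYonedaEquiv.{u + 1} (AlgSp.J S)).injective ?_
    rw [GrothendieckTopology.uliftYonedaEquiv_comp, Equiv.apply_symm_apply, AlgSt.spMapOfOver_app]
    refine ULift.ext _ _ ?_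
    show eqToHom _ ≫ (e.obj ⟨_, s⟩).obj.fst.hom = 𝟙 _ ≫ z.obj.fst.hom
    have w := Over.w η.hom.hom.fst
    have m : η.hom.hom.fst.left = eqToHom _ :=
      map_eq_of_vert (fp y q).p (R := (fp y q).p.obj z) η.hom
    rw [← w, m, Category.id_comp]
    simp
  · have hi : (fp y q).p.map (eqToIso eq0 ≪≫ η).hom = eqToHom (e.w_obj ⟨_, (GrothendieckTopology.uliftYonedaEquiv.{u + 1} (AlgSp.J S)) ((GrothendieckTopology.uliftYonedaEquiv.{u + 1} (AlgSp.J S)).symm s)⟩) := by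
      rw [Iso.trans_hom, (fp y q).p.map_comp, map_eq_of_vert (fp y q).p (R := (fp y q).p.obj z) η.hom,
        eqToIso.hom, eqToHom_map]
      exact eqToHom_trans _ _
    refine (cancel_mono ((fp y q).p.map (eqToIso eq0 ≪≫ η).hom)).1 ?_
    rw [← (fp y q).p.map_comp, Iso.inv_hom_id, hi, (fp y q).p.map_id]
    simp only [eqToHom_trans]; exact (eqToHom_refl ((fp y q).p.obj z) _).symm

/-- Sections compatible with an arrow of the objects they give. -/
theorem sec_eq_of_hom (he : IsEquivOver e) {T' T : Over S} (t : T' ⟶ T) (α : (AlgSp.yon S).obj T' ⟶ G)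
    (β : (AlgSp.yon S).obj T ⟶ G) (M : e.obj ⟨T', (GrothendieckTopology.uliftYonedaEquiv.{u + 1} (AlgSp.J S)) α⟩ ⟶ e.obj ⟨T, (GrothendieckTopology.uliftYonedaEquiv.{u + 1} (AlgSp.J S)) β⟩)
    (hM : (fp y (inertiaToBase (toSelf 𝒳))).p.map M = eqToHom (e.w_obj _) ≫ t ≫ eqToHom (e.w_obj ⟨T, (GrothendieckTopology.uliftYonedaEquiv.{u + 1} (AlgSp.J S)) β⟩).symm) :
    (AlgSp.yon S).map t ≫ β = α := by
  have := (EqvData.of_isEquivOver he).full
  let m := e.toFunctor.preimage M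
  have hm : m.hom = t := by
    have h := based_map_back e m
    rw [e.toFunctor.map_preimage] at h
    refine h.trans ?_
    rw [hM]
    simp
  refine (GrothendieckTopology.uliftYonedaEquiv.{u + 1} (AlgSp.J S)).injective ?_
  refine Eq.trans ?_ m.map_sec
  rw [hm]
  exact (GrothendieckTopology.uliftYonedaEquiv_naturality (AlgSp.J S) β t).symm

/-- A section over a valuation ring extends when the automorphism extends. -/
theorem exists_lift_of_ext (h𝒳 : IsFibGrpd 𝒳.p) (he : IsEquivOver e) (hext : ExtDvr 𝒳)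
    (sq : AlgSp.ValSq (AlgSt.spMapOfOver (BasedFunctor.comp e (fpFst y (inertiaToBase (toSelf 𝒳))))))
    (hA : IsDiscreteValuationRing sq.A) :
    ∃ l : (AlgSp.yon S).obj sq.ptA ⟶ G, (AlgSp.yon S).map sq.j ≫ l = sq.top ∧
      l ≫ AlgSt.spMapOfOver (BasedFunctor.comp e (fpFst y (inertiaToBase (toSelf 𝒳)))) = sq.bot := by
  obtain ⟨m, hm⟩ := (AlgSp.yon S).map_surjective sq.bot
  let zt := e.obj ⟨sq.ptK, (GrothendieckTopology.uliftYonedaEquiv.{u + 1} (AlgSp.J S)) sq.top⟩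
  have hv : zt.obj.fst.left = sq.ptK := e.w_obj _
  have hfst : zt.obj.fst.hom = eqToHom hv ≫ sq.j ≫ m := by
    refine sec_fst_hom e sq.top ?_ hv
    rw [Functor.map_comp, hm]
    exact sq.comm
  let o : (overCat U).obj := Over.mk m
  let η := y.obj o
  let φ : zt.obj.fst ⟶ o := Over.homMk (eqToHom hv ≫ sq.j) (by rw [hfst, Category.assoc]; rfl)
  let pt : 𝒳.obj := zt.obj.snd.pt
  let ι₀ : y.obj zt.obj.fst ≅ pt := zt.obj.iso
  have eK : 𝒳.p.obj pt = sq.ptK := (fp_base_eq zt).trans hv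
  let w : pt ⟶ η := ι₀.inv ≫ y.map φ
  have hι : 𝒳.p.map ι₀.inv = eqToHom ((fp_base_eq zt).trans (y.w_obj zt.obj.fst).symm) :=
    (cancel_mono (𝒳.p.map ι₀.hom)).1 (by
      rw [← 𝒳.p.map_comp, ι₀.inv_hom_id, 𝒳.p.map_id]
      erw [fp_iso_map zt]
      simp)
  have hw : 𝒳.p.map w = eqToHom eK ≫ genPt sq.A sq.K sq.str ≫ eqToHom (y.w_obj o).symm := by
    show 𝒳.p.map (ι₀.inv ≫ y.map φ) = _
    rw [𝒳.p.map_comp, hι, based_map y φ]
    simp [φ, o, genPt]
  let a : pt ≅ pt := zt.obj.snd.aut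
  have ha : 𝒳.p.map a.hom = 𝟙 _ := zt.obj.snd.map_aut
  obtain ⟨c, hc, hwc⟩ := hext sq.A sq.K sq.str η pt (y.w_obj o) eK w (a.hom ≫ w) hw
    (by rw [𝒳.p.map_comp, ha, Category.id_comp])
  haveI : IsIso c := by
    have : IsIso (𝒳.p.map c) := by rw [hc]; infer_instance
    exact fibGrpd_isIso h𝒳 _
  let z₂ : (fp y (inertiaToBase (toSelf 𝒳))).obj :=
    fpMk o (⟨η, asIso c, hc⟩ : InertiaObj (toSelf 𝒳)) (Iso.refl η) (IsHomLift.id (y.w_obj o))
  obtain ⟨γ, hγ, i₂, hi₂⟩ := exists_sec' e he z₂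
  refine ⟨γ, ?_, hγ.trans hm⟩
  let S' : zt.obj.snd ⟶ z₂.obj.snd := ⟨w, hwc.symm⟩
  let N : zt ⟶ z₂ := fpHom φ S' (by
    show y.map φ ≫ 𝟙 η = ι₀.hom ≫ (ι₀.inv ≫ y.map φ)
    rw [Category.comp_id, Iso.hom_inv_id_assoc])
  refine sec_eq_of_hom he sq.j sq.top γ (N ≫ i₂.inv) ?_
  rw [(fp y (inertiaToBase (toSelf 𝒳))).p.map_comp, hi₂]
  show (N.hom.fst).left ≫ _ = _
  simp [N, φ, z₂, o]

end Space

end Groth.Agent.IsoNatLib.Twist

namespace Groth.Agent.IsoNatLib.Twist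

variable {S : Scheme.{u}} {𝒳 : AlgSt.Cat S}

/-- Proper inertia lets automorphisms extend over discrete valuation rings. -/
theorem extDvr_of_proper (h𝒳 : IsFibGrpd 𝒳.p)
    (hpr : AlgSt.RepByAlgSpWith AlgSp.IsProperMor (inertiaToBase (toSelf 𝒳))) : ExtDvr 𝒳 := by
  intro A K _ _ _ _ _ _ str η zW eη eW w h hw hh
  obtain ⟨y, i, hi⟩ := exists_classifying h𝒳 η eη
  have him : 𝒳.p.map i.hom = eqToHom ((y.w_obj (Over.mk (𝟙 (Over.mk str)))).trans eη.symm) :=
    map_eq_of_vert 𝒳.p (R := Over.mk str) i.hom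
  obtain ⟨G, e, he, hG⟩ := hpr (Over.mk str) y
  let q := inertiaToBase (toSelf 𝒳)
  let a₀ : G ⟶ (⟨_, AlgSp.IsAlgSpace.yon_obj (Over.mk str)⟩ : AlgSp.Space S) :=
    ObjectProperty.homMk (AlgSt.spMapOfOver (BasedFunctor.comp e (fpFst y q)))
  have hVC := ((S10327.result a₀ hG.2.1.2 (AlgSpLib.isQuasiSeparatedMor_of_isSeparatedMor hG.1)).2.1
    ⟨hG.1, hG.2.2⟩).2
  obtain ⟨a, ⟨ham, ha⟩, -⟩ := fibGrpd_fac h𝒳 w h (𝟙 _) (by rw [Category.id_comp, hh])
  haveI : IsIso a := by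
    have : IsIso (𝒳.p.map a) := by rw [ham]; infer_instance
    exact fibGrpd_isIso h𝒳 _
  let top : (overCat (Over.mk str)).obj := Over.mk (𝟙 _)
  let o : (overCat (Over.mk str)).obj := Over.mk (genPt A K str)
  obtain ⟨θ₀, ⟨hθ₀, hθw⟩, -⟩ := fibGrpd_fac h𝒳 w (toTop y o ≫ i.hom)
    (eqToHom ((y.w_obj o).trans eW.symm)) (by
      rw [𝒳.p.map_comp, toTop_map, him, hw]
      simp [o])
  haveI : IsIso θ₀ := by
    have : IsIso (𝒳.p.map θ₀) := by rw [hθ₀]; infer_instance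
    exact fibGrpd_isIso h𝒳 _
  let z₁ : (fp y q).obj := fpMk o (⟨zW, asIso a, ham⟩ : InertiaObj (toSelf 𝒳)) (asIso θ₀)
    (vert_change 𝒳.p _ (vert_of_map_eq 𝒳.p (h := (y.w_obj o).trans eW.symm) hθ₀) (y.w_obj o))
  obtain ⟨γ₁, hγ₁, i₁, hi₁⟩ := exists_sec' e he z₁
  let sq : AlgSp.ValSq a₀.hom :=
    { A := A, K := K, str := str, top := γ₁, bot := 𝟙 _,
      comm := hγ₁.trans (Category.comp_id _).symm }
  obtain ⟨l, hl1, hl2⟩ := hVC sq
  let z₂ := e.obj ⟨sq.ptA, GrothendieckTopology.uliftYonedaEquiv.{u + 1} (AlgSp.J S) l⟩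
  let v : z₁ ⟶ z₂ := i₁.inv ≫ eqToHom (congrArg (fun s : (AlgSp.yon S).obj sq.ptK ⟶ G.obj =>
    e.obj ⟨sq.ptK, GrothendieckTopology.uliftYonedaEquiv.{u + 1} (AlgSp.J S) s⟩) hl1.symm) ≫
    e.map (yonedaElt sq.j l)
  let pt : 𝒳.obj := z₂.obj.snd.pt
  let ι₂ : y.obj z₂.obj.fst ≅ pt := z₂.obj.iso
  let μ : pt ⟶ η := ι₂.inv ≫ toTop y z₂.obj.fst ≫ i.hom
  let w₃ : zW ⟶ pt := v.hom.snd.hom
  have hcomm : a ≫ w₃ = w₃ ≫ z₂.obj.snd.aut.hom := v.hom.snd.comm
  have hfp : y.map v.hom.fst ≫ ι₂.hom = θ₀ ≫ w₃ := v.hom.w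
  have hμw : w₃ ≫ μ = w := by
    rw [← cancel_epi θ₀, ← Category.assoc, ← hfp, hθw]
    simp only [μ, Category.assoc, Iso.hom_inv_id_assoc]
    rw [← Category.assoc, toTop_comp]
    rfl
  haveI : IsIso μ := by
    have h1 : IsIso (toTop y z₂.obj.fst) := by
      have hv : z₂.obj.fst.left = sq.ptA := e.w_obj _
      have hf : z₂.obj.fst.hom = eqToHom hv ≫ 𝟙 _ :=
        sec_fst_hom e l (hl2.trans ((AlgSp.yon S).map_id _).symm) hv
      have : IsIso (𝒳.p.map (toTop y z₂.obj.fst)) := by rw [toTop_map, hf]; infer_instance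
      exact fibGrpd_isIso h𝒳 _
    infer_instance
  refine ⟨inv μ ≫ z₂.obj.snd.aut.hom ≫ μ, ?_, ?_⟩
  · rw [𝒳.p.map_comp, 𝒳.p.map_comp, show 𝒳.p.map z₂.obj.snd.aut.hom = 𝟙 _ from z₂.obj.snd.map_aut,
      Category.id_comp, ← 𝒳.p.map_comp, IsIso.inv_hom_id, 𝒳.p.map_id]
  · rw [← hμw, Category.assoc, IsIso.hom_inv_id_assoc, ← Category.assoc, ← hcomm, Category.assoc, hμw]
    exact ha

/-- The identity is of finite type. -/
theorem isFiniteTypeMor_id {F : AlgSp.Sp S} (hF : AlgSp.IsAlgSpace F) : AlgSp.IsFiniteTypeMor (𝟙 F) := by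
  refine ⟨AlgSpLib.locP_id AlgSpLib.etLocal_lft hF, fun Z Z' _ hq g fst snd sq => ?_⟩
  have := sq.isIso_snd_of_isIso
  obtain ⟨U, p, hp₁, hp₂, hc⟩ := hq
  exact ⟨U, p ≫ inv snd, AlgSpLib.RepWith.comp hp₁ (AlgSpLib.repWith_of_isIso _ (inv snd)),
    AlgSpLib.RepWith.comp hp₂ (AlgSpLib.repWith_of_isIso _ (inv snd)), hc⟩

/-- A witness over a scheme gives the property for the base change to it. -/
theorem fpFst_with_of_witness {P : MorphismProperty (AlgSp.Sp S)} (hPb : PbStable P) {𝒵 : AlgSt.Cat S}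
    {U : Over S} {u : overCat U ⥤ᵇ 𝒳} {f : 𝒵 ⥤ᵇ 𝒳} (F : AlgSp.Space S) (e : AlgSt.ofSp F.obj ⥤ᵇ fp u f)
    (he : IsEquivOver e) (hp : P (AlgSt.spMapOfOver (BasedFunctor.comp e (fpFst u f)))) :
    AlgSt.RepByAlgSpWith P (fpFst u f) := fun W z => by
  refine witness_transfer' (isEquivOver_fpPaste z u f) (eqToIso (fpPaste_fst z u f)) ?_
  obtain ⟨c, ⟨iz⟩⟩ := exists_overMap_iso z
  have := id_full 𝒳
  have := id_faithful 𝒳
  let u' := BasedFunctor.comp (AlgSt.toOverCat U) u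
  let E' : fp u f ⥤ᵇ fp u' f :=
    fpMap (F' := u') (G' := f) (AlgSt.ofOverCat U) (BasedFunctor.id _) (BasedFunctor.id _)
      (Iso.refl _) (Iso.refl _)
  have hE' : IsEquivOver E' := isEquivOver_fpMap _ _ _ _ _ (isEquivOver_ofOverCat U) (isEquivOver_id _)
  obtain ⟨j⟩ := spHom_iso (BasedFunctor.comp (BasedFunctor.comp e (fpFst u f)) (AlgSt.ofOverCat U))
  set a := AlgSt.spMapOfOver (BasedFunctor.comp e (fpFst u f))
  have hQ := isAlgSpace_pullback_yon (Z := ⟨_, AlgSp.IsAlgSpace.yon_obj U⟩) a ((AlgSp.yon S).map c)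
  obtain ⟨E, hE, hk⟩ := exists_chart_rep u' (e := BasedFunctor.comp e E') (isEquivOver_comp he hE') (a := a) j
    (IsPullback.of_hasPullback a ((AlgSp.yon S).map c)) (y := BasedFunctor.comp z u) ((postB _ u).mapIso iz)
  refine ⟨⟨_, hQ⟩, E, hE, ?_⟩
  rw [hk]
  exact hPb F.property (AlgSp.IsAlgSpace.yon_obj U) hQ (AlgSp.IsAlgSpace.yon_obj W) _ _ _ _
    (IsPullback.of_hasPullback a ((AlgSp.yon S).map c)) hp

/-- Extension of automorphisms over discrete valuation rings gives proper inertia. -/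
theorem proper_of_extDvr (h : AlgSt.IsAlgStack Scheme.fppfPrecoverage 𝒳)
    (hd : AlgSt.RepByAlgSpWith (AlgSp.IsSeparatedMor ⊓ AlgSp.IsQuasiCompactMor) (FibCat.diag (toSelf 𝒳)))
    (hN : AlgSt.SmoothLocally (fun X => IsLocallyNoetherian X) 𝒳) (hext : ExtDvr 𝒳) :
    AlgSt.RepByAlgSpWith AlgSp.IsProperMor (inertiaToBase (toSelf 𝒳)) := by
  obtain ⟨U, u, hu, hus⟩ := h.atlas
  haveI : IsLocallyNoetherian U.left := hN U u hu
  have hl : AlgSt.RepByAlgSpWith (AlgSp.LocP @LocallyOfFiniteType) (inertiaToBase (toSelf 𝒳)) :=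
    inertia_with_of_diag (diag_toSelf_lft h)
  have hsq := inertia_with_of_diag hd
  have hsm := fun (P : MorphismProperty Scheme.{u}) (hP : ∀ {A B : Scheme.{u}} (g : A ⟶ B), Smooth g → P g) =>
    repByAlgSpWith_mono (Q := AlgSp.LocP P) (fun _ V a hX ha => AlgSpLib.locP_mono (fun _ _ g hg => hP g hg) ha) hu
  refine with_of_cover (respSrc_of_baseChange pbStable_proper) schDescent_proper (repByAlgSp1_of_with hl)
    (hsm @Flat fun g _ => inferInstance) (hsm @LocallyOfFinitePresentation fun g _ => inferInstance) hus ?_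
  obtain ⟨G, e, he, hG₁, hG₂⟩ := repByAlgSpWith_and (respSrc_locP AlgSpLib.etLocal_lft) hsq hl U u
  refine fpFst_with_of_witness pbStable_proper G e he ?_
  refine AlgSpLib.isProperMor_of_refined_dvr G.property (AlgSp.IsAlgSpace.yon_obj U) G.property hG₁.1
    ⟨hG₂, hG₁.2⟩ ⟨U, 𝟙 _, AlgSp.repWith_id @Etale U, AlgSp.repWith_id @Surjective U, inferInstance⟩ (𝟙 G.obj)
    (isFiniteTypeMor_id G.property) ?_ fun sq hA => ?_
  · intro x
    refine subset_closure ⟨x, ?_⟩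
    rw [AlgSp.Points.map_id]
  · obtain ⟨l, h1, h2⟩ := exists_lift_of_ext h.isStack.1 he hext
      { A := sq.A, K := sq.K, str := sq.str, top := sq.top, bot := sq.bot,
        comm := by simpa using sq.comm } hA
    exact ⟨l, h1.trans (Category.comp_id _).symm, h2⟩

end Groth.Agent.IsoNatLib.Twist
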