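import Groth.Agent.Stk19b.Gerbe.GlueSigma
import Groth.Prelude.Def_W4c2isonaturalstkIso

/-!
# Objects twisted by an automorphism on the overlap of two open charts
-/

set_option autoImplicit false
set_option linter.style.haveILetI false
set_option backward.isDefEq.respectTransparency false
set_option backward.isDefEq.respectTransparency.types false

universe u

open CategoryTheory CategoryTheory.Limits AlgebraicGeometry Opposite FibCat
open Groth.Agent.Stk19 Groth.Agent.Desc19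

namespace Groth.Agent.IsoNatLib.Twist

variable {S : Scheme.{u}} {𝒳 : AlgSt.Cat S}

/-- Separation of the presheaf of isomorphism classes for coverings by one flat surjection. -/
def SepCls (𝒳 : AlgSt.Cat S) : Prop :=
  ∀ (T T' : Over S) (π : T' ⟶ T) [Flat π.left] [Surjective π.left] [LocallyOfFinitePresentation π.left]
    (x₁ x₂ : 𝒳.p.Fiber T) (x₁' x₂' : 𝒳.p.Fiber T') (a₁ : x₁'.1 ⟶ x₁.1) (a₂ : x₂'.1 ⟶ x₂.1),
    𝒳.p.IsHomLift π a₁ → 𝒳.p.IsHomLift π a₂ → Nonempty (x₁' ≅ x₂') → Nonempty (x₁ ≅ x₂)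

/-- An arrow from pieces of a disjoint covering. -/
theorem glue_disjoint (hS : Stk.IsStack (AlgSp.J S) 𝒳) {ι : Type u} {x y : 𝒳.obj}
    (e : 𝒳.p.obj x = 𝒳.p.obj y) (z : ι → 𝒳.obj) (ν : ∀ k, z k ⟶ x) (τ : ∀ k, z k ⟶ y)
    (hτ : ∀ k, 𝒳.p.map (τ k) = 𝒳.p.map (ν k) ≫ eqToHom e) (hmono : ∀ k, Mono (𝒳.p.map (ν k)))
    (hcov : Sieve.ofArrows _ (fun k => 𝒳.p.map (ν k)) ∈ AlgSp.J S (𝒳.p.obj x))
    (hdis : ∀ (Z : Over S) (k k' : ι) (l : Z ⟶ 𝒳.p.obj (z k)) (m : Z ⟶ 𝒳.p.obj (z k')),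
      l ≫ 𝒳.p.map (ν k) = m ≫ 𝒳.p.map (ν k') → k = k' ∨ IsEmpty Z.left) :
    ∃ χ : x ⟶ y, 𝒳.p.map χ = eqToHom e ∧ ∀ k, ν k ≫ χ = τ k := by
  let R := Sieve.ofArrows _ (fun k => 𝒳.p.map (ν k))
  have hfac : ∀ (c : 𝒳.obj) (μ : c ⟶ x), R.arrows (𝒳.p.map μ ≫ eqToHom rfl) →
      ∃ (k : ι) (ω : c ⟶ z k), ω ≫ ν k = μ := by
    intro c μ hμ
    rw [eqToHom_refl, Category.comp_id] at hμ
    obtain ⟨k, l, hl⟩ := (Sieve.mem_ofArrows_iff _ _ _).1 hμ
    obtain ⟨ω, ⟨-, hω⟩, -⟩ := fibGrpd_fac hS.1 (ν k) μ l hl.symm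
    exact ⟨k, ω, hω⟩
  choose K ω hω using hfac
  have huq : ∀ (c : 𝒳.obj) (k k' : ι) (f : c ⟶ z k) (f' : c ⟶ z k'), f ≫ ν k = f' ≫ ν k' →
      f ≫ τ k = f' ≫ τ k' := by
    intro c k k' f f' hff
    have hm : 𝒳.p.map f ≫ 𝒳.p.map (ν k) = 𝒳.p.map f' ≫ 𝒳.p.map (ν k') := by
      rw [← 𝒳.p.map_comp, ← 𝒳.p.map_comp, hff]
    rcases hdis _ k k' _ _ hm with hk | he
    · subst hk
      have := hmono k
      rw [fibGrpd_ext hS.1 (ν k) ((cancel_mono _).1 hm) hff]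
    · refine Stk19b.Gerbe.ext_of_isEmpty hS he ?_
      rw [𝒳.p.map_comp, 𝒳.p.map_comp, hτ, hτ, ← Category.assoc, hm, Category.assoc]
  obtain ⟨χ, ⟨hχ, hspec⟩, -⟩ := (isPrestackFor_iff_glue hS.1 R).1 ((isStack_isPrestack hS).2 R hcov)
    x y rfl e.symm (fun c μ hμ => ω c μ hμ ≫ τ (K c μ hμ))
    (fun c μ hμ => by
      rw [𝒳.p.map_comp, hτ, ← Category.assoc, ← 𝒳.p.map_comp, hω])
    (fun c' c g μ hμ hμ' => by
      rw [← Category.assoc]
      exact huq _ _ _ _ _ (by rw [hω, Category.assoc, hω]))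
  refine ⟨χ, hχ, fun k => ?_⟩
  have hk : R.arrows (𝒳.p.map (ν k) ≫ eqToHom rfl) := by
    rw [eqToHom_refl, Category.comp_id]
    exact Sieve.ofArrows_mk _ _ k
  rw [hspec _ (ν k) hk]
  simpa using huq _ _ k (ω _ (ν k) hk) (𝟙 (z k)) (by rw [hω, Category.id_comp])

open Classical in
/-- Two copies of an object glued by an automorphism over the overlap. -/
theorem exists_twist (hS : Stk.IsStack (AlgSp.J S) 𝒳) {P : Over S} {η zL zW : 𝒳.obj}
    (π : P ⟶ 𝒳.p.obj η) (ι₁ ι₂ : 𝒳.p.obj zL ⟶ P) (ν : zL ⟶ η) (w : zW ⟶ zL)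
    (hι₁ : ι₁ ≫ π = 𝒳.p.map ν) (hι₂ : ι₂ ≫ π = 𝒳.p.map ν)
    (sq : IsPullback (𝒳.p.map w) (𝒳.p.map w) ι₁ ι₂) [Mono ι₁] [Mono ι₂]
    (hcov : Sieve.ofArrows (fun _ : ULift.{u} Bool => 𝒳.p.obj zL)
      (fun k => if k.down then ι₂ else ι₁) ∈ AlgSp.J S P)
    (v : zW ⟶ zW) (hv : 𝒳.p.map v = 𝟙 _) :
    ∃ (x : 𝒳.obj) (hx : 𝒳.p.obj x = P) (μ₁ μ₂ : zL ⟶ x), 𝒳.p.map μ₁ = ι₁ ≫ eqToHom hx.symm ∧
      𝒳.p.map μ₂ = ι₂ ≫ eqToHom hx.symm ∧ w ≫ μ₁ = v ≫ w ≫ μ₂ := by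
  let R := Sieve.ofArrows (fun _ : ULift.{u} Bool => 𝒳.p.obj zL) (fun k => if k.down then ι₂ else ι₁)
  let inj : Bool → (𝒳.p.obj zL ⟶ P) := fun s => if s then ι₂ else ι₁
  have hinj : ∀ s, inj s ≫ π = 𝒳.p.map ν := fun s => by cases s <;> assumption
  let Lift : (Stk.sieveCat R).obj → Bool → Prop := fun a s => ∃ l, l ≫ inj s = a.obj.hom
  let Has : (Stk.sieveCat R).obj → Prop := fun a => ∃ l, l ≫ 𝒳.p.map w ≫ ι₁ = a.obj.hom
  have hside : ∀ a, ∃ s, Lift a s := fun a => by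
    obtain ⟨k, g, hg⟩ := (Sieve.mem_ofArrows_iff _ _ a.obj.hom).1 a.property
    exact ⟨k.down, g, hg.symm⟩
  choose side hs using hside
  have hboth : ∀ a, Lift a false → Lift a true → Has a := fun a ⟨l, hl⟩ ⟨m, hm⟩ =>
    ⟨sq.lift l m (hl.trans hm.symm), by rw [sq.lift_fst_assoc]; exact hl⟩
  have hdown : ∀ {a b : (Stk.sieveCat R).obj} (φ : a ⟶ b) s, Lift b s → Lift a s := fun φ s ⟨l, hl⟩ =>
    ⟨φ.hom.left ≫ l, by rw [Category.assoc, hl]; exact Over.w φ.hom⟩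
  choose d ρ ed hρ using fun a : (Stk.sieveCat R).obj => fibGrpd_lift hS.1 η (a.obj.hom ≫ π)
  -- the twist on an object over the overlap
  have hχ : ∀ a, Has a → ∃ χ : d a ⟶ d a, 𝒳.p.map χ = 𝟙 _ ∧ IsIso χ ∧
      ∀ κ : d a ⟶ zW, κ ≫ w ≫ ν = ρ a → 𝒳.p.map κ ≫ 𝒳.p.map w ≫ ι₁ = eqToHom (ed a) ≫ a.obj.hom →
        χ ≫ ρ a = κ ≫ v ≫ w ≫ ν := by
    rintro a ⟨l, hl⟩
    obtain ⟨κ₀, ⟨hκm, hκ⟩, -⟩ := fibGrpd_fac hS.1 (w ≫ ν) (ρ a) (eqToHom (ed a) ≫ l) (by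
      rw [𝒳.p.map_comp, ← hι₁, Category.assoc, hρ, ← hl]
      simp only [Category.assoc])
    obtain ⟨χ, ⟨hχm, hχ⟩, -⟩ := fibGrpd_fac hS.1 (ρ a) (κ₀ ≫ v ≫ w ≫ ν) (𝟙 _) (by
      rw [← hκ]
      simp only [𝒳.p.map_comp, hv, Category.id_comp])
    have : IsIso (𝒳.p.map χ) := by rw [hχm]; infer_instance
    refine ⟨χ, hχm, fibGrpd_isIso hS.1 _, fun κ h1 h2 => ?_⟩
    have hmono : Mono (𝒳.p.map w ≫ ι₁) := by
      have : Mono (𝒳.p.map w) := MorphismProperty.of_isPullback (P := MorphismProperty.monomorphisms (Over S))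
        sq.flip (inferInstanceAs (Mono ι₂))
      infer_instance
    have hk : κ = κ₀ := by
      refine fibGrpd_ext hS.1 (w ≫ ν) ((cancel_mono (𝒳.p.map w ≫ ι₁)).1 ?_) (h1.trans hκ.symm)
      rw [h2, hκm, Category.assoc, hl]
    rw [hk, hχ]
  choose χ hχm hχi hχ using hχ
  let τ : ∀ a, Bool → Bool → (d a ⟶ d a) := fun a s t =>
    if h : Has a then
      (if s = t then 𝟙 _ else if s = false then χ a h else @inv _ _ _ _ (χ a h) (hχi a h))
    else 𝟙 _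
  have hτm : ∀ a s t, 𝒳.p.map (τ a s t) = 𝟙 _ := fun a s t => by
    simp only [τ]
    split_ifs with h h1 h2
    · exact 𝒳.p.map_id _
    · exact hχm a h
    · have := hχi a h
      rw [Functor.map_inv]
      simp [hχm a h]
    · exact 𝒳.p.map_id _
  have hcoc : ∀ a s t r, τ a s t ≫ τ a t r = τ a s r := fun a s t r => by
    by_cases h : Has a
    · have := hχi a h
      simp only [τ, dif_pos h]
      cases s <;> cases t <;> cases r <;> simp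
    · simp [τ, dif_neg h]
  have hrefl : ∀ a s, τ a s s = 𝟙 _ := fun a s => by simp [τ]
  -- naturality of the twist
  have hnat : ∀ {a b : (Stk.sieveCat R).obj} (φ : a ⟶ b) (g₀ : d a ⟶ d b),
      𝒳.p.map g₀ = eqToHom (ed a) ≫ φ.hom.left ≫ eqToHom (ed b).symm → g₀ ≫ ρ b = ρ a →
      ∀ s t, Lift b s → Lift b t → τ a s t ≫ g₀ = g₀ ≫ τ b s t := by
    intro a b φ g₀ hg hgρ s t hbs hbt
    by_cases hst : s = t
    · subst hst
      rw [hrefl, hrefl, Category.id_comp, Category.comp_id]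
    have hb : Has b := by
      cases s <;> cases t <;> first | exact absurd rfl hst | exact hboth b hbs hbt | exact hboth b hbt hbs
    have ha : Has a := ⟨φ.hom.left ≫ hb.choose, by
      rw [Category.assoc, hb.choose_spec]; exact Over.w φ.hom⟩
    have key : χ a ha ≫ g₀ = g₀ ≫ χ b hb := by
      refine fibGrpd_ext hS.1 (ρ b) (by rw [𝒳.p.map_comp, 𝒳.p.map_comp, hχm, hχm]; simp) ?_
      obtain ⟨κ, ⟨hκm, hκ⟩, -⟩ := fibGrpd_fac hS.1 (w ≫ ν) (ρ b) (eqToHom (ed b) ≫ hb.choose) (by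
        rw [𝒳.p.map_comp, ← hι₁, Category.assoc, hρ, ← Category.assoc hb.choose, ← Category.assoc (hb.choose ≫ _),
          Category.assoc hb.choose, hb.choose_spec])
      have hκ2 : 𝒳.p.map κ ≫ 𝒳.p.map w ≫ ι₁ = eqToHom (ed b) ≫ b.obj.hom := by
        rw [hκm, Category.assoc, hb.choose_spec]
      rw [Category.assoc, hgρ, Category.assoc, hχ b hb κ hκ hκ2,
        hχ a ha (g₀ ≫ κ) (by rw [Category.assoc, hκ, hgρ]) (by
          rw [𝒳.p.map_comp, hg, Category.assoc, hκ2]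
          simp), Category.assoc]
    simp only [τ, dif_pos ha, dif_pos hb, if_neg hst]
    by_cases hsf : s = false
    · rw [if_pos hsf, if_pos hsf]
      exact key
    · rw [if_neg hsf, if_neg hsf]
      have := hχi a ha
      have := hχi b hb
      rw [IsIso.inv_comp_eq, ← Category.assoc, key, Category.assoc, IsIso.hom_inv_id, Category.comp_id]
  -- the descent datum
  have hfac : ∀ {a b : (Stk.sieveCat R).obj} (φ : a ⟶ b), ∃! g : d a ⟶ d b,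
      𝒳.p.map g = eqToHom (ed a) ≫ φ.hom.left ≫ eqToHom (ed b).symm ∧ g ≫ ρ b = ρ a := fun {a b} φ =>
    fibGrpd_fac hS.1 (ρ b) (ρ a) (eqToHom (ed a) ≫ φ.hom.left ≫ eqToHom (ed b).symm) (by
      rw [hρ, hρ]
      simp only [Category.assoc, eqToHom_trans_assoc, eqToHom_refl, Category.id_comp]
      rw [← Category.assoc φ.hom.left]
      exact congrArg (fun k => eqToHom (ed a) ≫ k ≫ π) (Over.w φ.hom))
  choose g₀ hg₀ hg₀u using @hfac
  have g₀id : ∀ a, g₀ (𝟙 a) = 𝟙 _ := fun a =>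
    (hg₀u (𝟙 a) _ ⟨by rw [𝒳.p.map_id]; change 𝟙 _ = eqToHom _ ≫ 𝟙 a.obj.left ≫ eqToHom _; simp,
      Category.id_comp _⟩).symm
  have g₀comp : ∀ {a b c : (Stk.sieveCat R).obj} (φ : a ⟶ b) (ψ : b ⟶ c), g₀ (φ ≫ ψ) = g₀ φ ≫ g₀ ψ :=
    fun φ ψ => (hg₀u (φ ≫ ψ) _ ⟨by
      rw [𝒳.p.map_comp, (hg₀ φ).1, (hg₀ ψ).1]
      rw [show (φ ≫ ψ).hom.left = φ.hom.left ≫ ψ.hom.left from rfl]
      simp,
      by rw [Category.assoc, (hg₀ ψ).2, (hg₀ φ).2]⟩).symm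
  let m : ∀ {a b : (Stk.sieveCat R).obj} (φ : a ⟶ b), d a ⟶ d b := fun {a b} φ =>
    τ a (side a) (side b) ≫ g₀ φ
  let D₀ : (Stk.sieveCat R).obj ⥤ 𝒳.obj :=
    { obj := d
      map := fun φ => m φ
      map_id := fun a => by simp only [m, hrefl, g₀id, Category.id_comp]
      map_comp := fun {a b c} φ ψ => by
        have hn := hnat φ (g₀ φ) (hg₀ φ).1 (hg₀ φ).2 (side b) (side c) (hs b) (hdown ψ _ (hs c))
        simp only [m, g₀comp, Category.assoc]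
        rw [← Category.assoc (g₀ φ) (τ b _ _), ← hn, Category.assoc, ← Category.assoc (τ a _ _) (τ a _ _),
          hcoc] }
  let D : Stk.sieveCat R ⥤ᵇ 𝒳 :=
    { toFunctor := D₀
      w := CategoryTheory.Functor.ext ed (fun a b φ => by
        show 𝒳.p.map (τ a _ _ ≫ g₀ φ) = _
        rw [𝒳.p.map_comp, hτm, Category.id_comp, (hg₀ φ).1]
        rfl) }
  obtain ⟨x, hx, θ, hθ, hθn⟩ := ((isStackFor_iff_glue hS.1 R).1 (hS.2 R hcov)).2 D
  have hθn' : ∀ {a b : (Stk.sieveCat R).obj} (φ : a ⟶ b), (τ a (side a) (side b) ≫ g₀ φ) ≫ θ b = θ a :=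
    fun φ => hθn _ _ φ
  let A : Bool → (Stk.sieveCat R).obj := fun s => ⟨Over.mk (inj s), Sieve.ofArrows_mk _ _ (⟨s⟩ : ULift.{u} Bool)⟩
  have hA : ∀ s, Lift (A s) s := fun s => ⟨𝟙 _, Category.id_comp _⟩
  choose ω hω _ using fun s : Bool => fibGrpd_fac hS.1 (ρ (A s)) ν (eqToHom (ed (A s)).symm) (by
    rw [hρ]
    simp only [A, Over.mk_hom, eqToHom_trans_assoc, eqToHom_refl, Category.id_comp]
    exact hinj s)
  refine ⟨x, hx, ω false ≫ τ (A false) false (side (A false)) ≫ θ (A false),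
    ω true ≫ τ (A true) true (side (A true)) ≫ θ (A true), ?_, ?_, ?_⟩
  · rw [𝒳.p.map_comp, 𝒳.p.map_comp, (hω false).1, hτm, hθ]
    simp [A, inj, D, D₀]
  · rw [𝒳.p.map_comp, 𝒳.p.map_comp, (hω true).1, hτm, hθ]
    simp [A, inj, D, D₀]
  let aW : (Stk.sieveCat R).obj := ⟨Over.mk (𝒳.p.map w ≫ ι₁),
    R.downward_closed (Sieve.ofArrows_mk _ _ (⟨false⟩ : ULift.{u} Bool)) (𝒳.p.map w)⟩
  obtain ⟨κ, ⟨hκm, hκ⟩, -⟩ := fibGrpd_fac hS.1 (ρ aW) (w ≫ ν) (eqToHom (ed aW).symm) (by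
    rw [hρ, 𝒳.p.map_comp, ← hι₁]
    simp [aW])
  have hside : ∀ s, 𝒳.p.map w ≫ inj s = 𝒳.p.map w ≫ ι₁ := fun s => by
    cases s
    · rfl
    · exact sq.w.symm
  have hw : ∀ s, w ≫ ω s ≫ τ (A s) s (side (A s)) ≫ θ (A s) = κ ≫ τ aW s (side aW) ≫ θ aW := by
    intro s
    let φ : aW ⟶ A s := ObjectProperty.homMk (Over.homMk (𝒳.p.map w) (hside s))
    have e1 : w ≫ ω s = κ ≫ g₀ φ := by
      refine fibGrpd_ext hS.1 (ρ (A s)) ?_ ?_
      · rw [𝒳.p.map_comp, 𝒳.p.map_comp, (hω s).1, hκm, (hg₀ φ).1]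
        simp [φ]
      · rw [Category.assoc, (hω s).2, Category.assoc, (hg₀ φ).2, hκ]
    rw [reassoc_of% e1]
    have hn := hnat φ (g₀ φ) (hg₀ φ).1 (hg₀ φ).2 s (side (A s)) (hA s) (hs (A s))
    rw [← Category.assoc (g₀ φ), ← hn, Category.assoc, ← hθn' φ]
    simp only [Category.assoc]
    rw [← Category.assoc (τ aW s (side aW)), hcoc]
  have hW : Has aW := ⟨𝟙 _, Category.id_comp _⟩
  rw [hw false, hw true, ← hcoc aW false true (side aW)]
  have e2 : τ aW false true = χ aW hW := by simp [τ, dif_pos hW]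
  have hκi : IsIso κ := by
    have : IsIso (𝒳.p.map κ) := by rw [hκm]; infer_instance
    exact fibGrpd_isIso hS.1 _
  have h4 : χ aW hW ≫ ρ aW = inv κ ≫ v ≫ w ≫ ν := hχ aW hW (inv κ)
    (by rw [IsIso.inv_comp_eq, hκ]) (by rw [Functor.map_inv]; simp [hκm, aW])
  have e3 : κ ≫ χ aW hW = v ≫ κ := by
    refine fibGrpd_ext hS.1 (ρ aW) (by rw [𝒳.p.map_comp, 𝒳.p.map_comp, hχm, hv, hκm]; simp) ?_
    rw [Category.assoc, h4, IsIso.hom_inv_id_assoc, Category.assoc, hκ]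
  simp only [e2, Category.assoc]
  rw [reassoc_of% e3]

/-- With a separated presheaf of isomorphism classes automorphisms extend from opens. -/
theorem exists_extend (hS : Stk.IsStack (AlgSp.J S) 𝒳) (hsep : SepCls 𝒳) {η zL zW : 𝒳.obj}
    (ν : zL ⟶ η) (w : zW ⟶ zL) [IsOpenImmersion (𝒳.p.map w).left]
    (h : zW ⟶ η) (hh : 𝒳.p.map h = 𝒳.p.map w ≫ 𝒳.p.map ν) :
    ∃ c : zL ⟶ η, 𝒳.p.map c = 𝒳.p.map ν ∧ w ≫ c = h := by
  let L := 𝒳.p.obj zL
  let W := 𝒳.p.obj zW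
  let i : W.left ⟶ L.left := (𝒳.p.map w).left
  haveI : IsOpenImmersion i := inferInstanceAs (IsOpenImmersion (𝒳.p.map w).left)
  let Pl : Scheme.{u} := pushout i i
  let P : Over S := Over.mk (pushout.desc L.hom L.hom rfl : Pl ⟶ S)
  let ι₁ : L ⟶ P := Over.homMk (pushout.inl i i) (pushout.inl_desc _ _ _)
  let ι₂ : L ⟶ P := Over.homMk (pushout.inr i i) (pushout.inr_desc _ _ _)
  let π : P ⟶ 𝒳.p.obj η := Over.homMk (pushout.desc (𝒳.p.map ν).left (𝒳.p.map ν).left rfl) (by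
    apply pushout.hom_ext
    · show pushout.inl i i ≫ pushout.desc _ _ _ ≫ _ = pushout.inl i i ≫ pushout.desc _ _ _
      rw [pushout.inl_desc_assoc, pushout.inl_desc]
      exact Over.w (𝒳.p.map ν)
    · show pushout.inr i i ≫ pushout.desc _ _ _ ≫ _ = pushout.inr i i ≫ pushout.desc _ _ _
      rw [pushout.inr_desc_assoc, pushout.inr_desc]
      exact Over.w (𝒳.p.map ν))
  have hπ₁ : ι₁ ≫ π = 𝒳.p.map ν := Over.OverMorphism.ext (pushout.inl_desc _ _ _)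
  have hπ₂ : ι₂ ≫ π = 𝒳.p.map ν := Over.OverMorphism.ext (pushout.inr_desc _ _ _)
  let D := span i i
  have hop : ∀ k, IsOpenImmersion (colimit.ι D k) := fun k => inferInstance
  have ho₁ : IsOpenImmersion ι₁.left := hop WalkingSpan.left
  have ho₂ : IsOpenImmersion ι₂.left := hop WalkingSpan.right
  haveI : Mono ι₁ := (Over.forget S).mono_of_mono_map (inferInstanceAs (Mono ι₁.left))
  haveI : Mono ι₂ := (Over.forget S).mono_of_mono_map (inferInstanceAs (Mono ι₂.left))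
  have hw₀ : 𝒳.p.map w ≫ ι₁ = 𝒳.p.map w ≫ ι₂ := Over.OverMorphism.ext pushout.condition
  have hsurj : ∀ q : ↥Pl, ∃ k : ULift.{u} Bool, q ∈ Set.range (if k.down then ι₂ else ι₁).left := by
    intro q
    obtain ⟨k, y, rfl⟩ := (Scheme.IsLocallyDirected.openCover D).exists_eq q
    rcases k with _ | _ | _
    · refine ⟨⟨false⟩, (i : W.left ⟶ L.left) y, ?_⟩
      exact congrArg (fun f => f y) (colimit.w D WalkingSpan.Hom.fst)
    · exact ⟨⟨false⟩, y, rfl⟩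
    · exact ⟨⟨true⟩, y, rfl⟩
  haveI : ∀ k : ULift.{u} Bool, IsOpenImmersion (if k.down then ι₂ else ι₁).left := fun k => by
    obtain ⟨_ | _⟩ := k
    · exact ho₁
    · exact ho₂
  have hcov : Sieve.ofArrows (fun _ : ULift.{u} Bool => L) (fun k => if k.down then ι₂ else ι₁) ∈ AlgSp.J S P :=
    AlgSpLib.ofArrows_mem_J _ hsurj
  have hbad : ∀ (a b : ↥L.left), ι₁.left a = ι₂.left b → a ∈ Set.range i := by
    intro a b hab
    obtain ⟨k, f, g, z, hz1, hz2⟩ := Scheme.IsLocallyDirected.ι_eq_ι_iff (F := D)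
      (i := WalkingSpan.left) (j := WalkingSpan.right) |>.1 hab
    rcases k with _ | _ | _
    · refine ⟨z, ?_⟩
      rw [← hz1, show f = WalkingSpan.Hom.fst from Subsingleton.elim _ _]
      rfl
    · exact nomatch g
    · exact nomatch f
  have sq : IsPullback (𝒳.p.map w) (𝒳.p.map w) ι₁ ι₂ := by
    refine ⟨⟨hw₀⟩, ⟨PullbackCone.IsLimit.mk _ (fun s => Over.homMk (IsOpenImmersion.lift i s.fst.left ?_) ?_)
      (fun s => ?_) (fun s => ?_) (fun s m h1 h2 => ?_)⟩⟩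
    · rintro _ ⟨z, rfl⟩
      refine hbad _ (s.snd.left z) ?_
      rw [← Scheme.Hom.comp_apply, ← Scheme.Hom.comp_apply]
      exact congrArg (fun f => f z) (congrArg CommaMorphism.left s.condition)
    · rw [← Over.w (𝒳.p.map w), IsOpenImmersion.lift_fac_assoc]
      exact Over.w s.fst
    · exact Over.OverMorphism.ext (IsOpenImmersion.lift_fac _ _ _)
    · refine (cancel_mono ι₂).1 ((Category.assoc _ _ _).trans ((congrArg (_ ≫ ·) hw₀.symm).trans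
        (Eq.trans ?_ s.condition)))
      exact Over.OverMorphism.ext (IsOpenImmersion.lift_fac_assoc _ _ _ _)
    · haveI : Mono (𝒳.p.map w) := (Over.forget S).mono_of_mono_map (inferInstanceAs (Mono i))
      refine (cancel_mono (𝒳.p.map w)).1 (h1.trans (Eq.symm ?_))
      exact Over.OverMorphism.ext (IsOpenImmersion.lift_fac _ _ _)
  obtain ⟨v, ⟨hvm, hv⟩, -⟩ := fibGrpd_fac hS.1 (w ≫ ν) h (𝟙 _) (by
    rw [Category.id_comp, hh, 𝒳.p.map_comp])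
  obtain ⟨x, hx, μ₁, μ₂, hμ₁, hμ₂, hμ⟩ := exists_twist hS π ι₁ ι₂ ν w hπ₁ hπ₂ sq hcov v hvm
  obtain ⟨ηP, ρP, eP, hρP⟩ := fibGrpd_lift hS.1 η π
  -- the cover by two copies
  let Q := AlgSpLib.sigmaOver (fun _ : ULift.{u} Bool => L)
  let p : Q ⟶ P := Over.homMk (Sigma.desc fun k : ULift.{u} Bool => (if k.down then ι₂ else ι₁).left) (by
    apply Sigma.hom_ext
    intro k
    exact (Sigma.ι_desc_assoc _ _ _).trans ((Over.w (if k.down then ι₂ else ι₁)).trans (Sigma.ι_desc (fun _ : ULift.{u} Bool => L.hom) k).symm))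
  have hp : ∀ k, AlgSpLib.sigmaOverι (fun _ : ULift.{u} Bool => L) k ≫ p = if k.down then ι₂ else ι₁ :=
    fun k => Over.OverMorphism.ext (Sigma.ι_desc _ _)
  haveI : Flat p.left :=
    (IsZariskiLocalAtSource.iff_of_openCover (P := @Flat) (sigmaOpenCover fun _ : ULift.{u} Bool => L.left)).2
      fun k => by
        show Flat (Sigma.ι _ k ≫ Sigma.desc _)
        rw [Sigma.ι_desc]
        infer_instance
  haveI : LocallyOfFinitePresentation p.left :=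
    (IsZariskiLocalAtSource.iff_of_openCover (P := @LocallyOfFinitePresentation)
      (sigmaOpenCover fun _ : ULift.{u} Bool => L.left)).2
      fun k => by
        show LocallyOfFinitePresentation (Sigma.ι _ k ≫ Sigma.desc _)
        rw [Sigma.ι_desc]
        infer_instance
  haveI : Surjective p.left := ⟨fun q => by
    obtain ⟨k, y, hy⟩ := hsurj q
    refine ⟨(AlgSpLib.sigmaOverι (fun _ : ULift.{u} Bool => L) k).left y, ?_⟩
    rw [← Scheme.Hom.comp_apply, ← Over.comp_left, hp]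
    exact hy⟩
  obtain ⟨xQ, aX, exQ, haX⟩ := fibGrpd_lift hS.1 x (p ≫ eqToHom hx.symm)
  obtain ⟨ηQ, aη, eηQ, haη⟩ := fibGrpd_lift hS.1 ηP (p ≫ eqToHom eP.symm)
  let μ : ULift.{u} Bool → (zL ⟶ x) := fun k => if k.down then μ₂ else μ₁
  have hμm : ∀ k, 𝒳.p.map (μ k) = (if k.down then ι₂ else ι₁) ≫ eqToHom hx.symm := by
    rintro ⟨_ | _⟩
    · exact hμ₁
    · exact hμ₂
  have hα : ∀ k : ULift.{u} Bool, ∃! α : zL ⟶ ηP,
      𝒳.p.map α = (if k.down then ι₂ else ι₁) ≫ eqToHom eP.symm ∧ α ≫ ρP = ν := fun k =>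
    fibGrpd_fac hS.1 ρP ν _ (by
      rw [hρP, Category.assoc, eqToHom_trans_assoc, eqToHom_refl, Category.id_comp]
      obtain ⟨_ | _⟩ := k
      · exact hπ₁
      · exact hπ₂)
  choose α hα _ using hα
  choose β hβ _ using fun k => fibGrpd_fac hS.1 aη (α k)
    (AlgSpLib.sigmaOverι (fun _ : ULift.{u} Bool => L) k ≫ eqToHom eηQ.symm) (by
      rw [haη, (hα k).1, Category.assoc, eqToHom_trans_assoc, eqToHom_refl, Category.id_comp, reassoc_of% hp k])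
  choose γ hγ _ using fun k => fibGrpd_fac hS.1 aX (μ k)
    (AlgSpLib.sigmaOverι (fun _ : ULift.{u} Bool => L) k ≫ eqToHom exQ.symm) (by
      rw [haX, hμm k, Category.assoc, eqToHom_trans_assoc, eqToHom_refl, Category.id_comp, reassoc_of% hp k])
  haveI hι : ∀ k, IsOpenImmersion (AlgSpLib.sigmaOverι (fun _ : ULift.{u} Bool => L) k).left := fun k =>
    inferInstanceAs (IsOpenImmersion (Sigma.ι (fun _ : ULift.{u} Bool => L.left) k))
  obtain ⟨χ, hχ, -⟩ := glue_disjoint hS (eηQ.trans exQ.symm) (fun _ => zL) β γ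
    (fun k => by rw [(hβ k).1, (hγ k).1]; simp)
    (fun k => by
      rw [(hβ k).1]
      have : Mono (AlgSpLib.sigmaOverι (fun _ : ULift.{u} Bool => L) k) :=
        (Over.forget S).mono_of_mono_map (inferInstanceAs (Mono (AlgSpLib.sigmaOverι (fun _ : ULift.{u} Bool => L) k).left))
      infer_instance)
    (by
      simp only [fun k => (hβ k).1]
      haveI : ∀ k, IsOpenImmersion (AlgSpLib.sigmaOverι (fun _ : ULift.{u} Bool => L) k ≫ eqToHom eηQ.symm).left :=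
        fun k => by rw [Over.comp_left]; infer_instance
      refine AlgSpLib.ofArrows_mem_J _ fun q => ?_
      obtain ⟨k, y, hy⟩ := (sigmaOpenCover fun _ : ULift.{u} Bool => L.left).exists_eq ((eqToHom eηQ).left q)
      refine ⟨k, y, ?_⟩
      rw [Over.comp_left, Scheme.Hom.comp_apply]
      refine (congrArg _ hy).trans ?_
      rw [← Scheme.Hom.comp_apply, ← Over.comp_left, eqToHom_trans, eqToHom_refl]
      rfl)
    (fun Z k k' l m hlm => Stk19b.Gerbe.eq_or_isEmpty l m ((cancel_mono (eqToHom eηQ.symm)).1 (by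
      simp only [Category.assoc, ← (hβ k).1, ← (hβ k').1]
      exact hlm)))
  haveI : IsIso χ := by
    have : IsIso (𝒳.p.map χ) := by rw [hχ]; infer_instance
    exact fibGrpd_isIso hS.1 _
  haveI := vert_change 𝒳.p _ (vert_of_map_eq 𝒳.p (φ := χ) hχ) eηQ
  haveI : 𝒳.p.IsHomLift (𝟙 Q) (asIso χ).inv := vert_inv 𝒳.p (asIso χ) (by simpa using this)
  let o₁ : 𝒳.p.Fiber Q := ⟨ηQ, eηQ⟩
  let o₂ : 𝒳.p.Fiber Q := ⟨xQ, exQ⟩
  let fibIso : o₁ ≅ o₂ :=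
    ⟨Functor.Fiber.homMk 𝒳.p Q χ, Functor.Fiber.homMk 𝒳.p Q (asIso χ).inv,
      Functor.Fiber.hom_ext (asIso χ).hom_inv_id, Functor.Fiber.hom_ext (asIso χ).inv_hom_id⟩
  obtain ⟨ψ⟩ := hsep P Q p ⟨ηP, eP⟩ ⟨x, hx⟩ ⟨ηQ, eηQ⟩ ⟨xQ, exQ⟩ aη aX
    (IsHomLift.of_fac' 𝒳.p _ _ eηQ eP (by rw [haη]))
    (IsHomLift.of_fac' 𝒳.p _ _ exQ hx (by rw [haX]))
    ⟨fibIso⟩
  let ψ₁ : ηP ⟶ x := ψ.hom.1
  haveI : 𝒳.p.IsHomLift (𝟙 P) ψ₁ := ψ.hom.2
  have hψ : 𝒳.p.map ψ₁ = eqToHom (eP.trans hx.symm) := by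
    rw [IsHomLift.fac' 𝒳.p (𝟙 P) ψ₁]; simp
  choose a ha _ using fun k : ULift.{u} Bool => fibGrpd_fac hS.1 (α k ≫ ψ₁) (μ k) (𝟙 _) (by
    rw [Category.id_comp, 𝒳.p.map_comp, (hα k).1, hψ, hμm k]; simp)
  haveI : IsIso (a ⟨true⟩) := by
    have : IsIso (𝒳.p.map (a ⟨true⟩)) := by rw [(ha _).1]; infer_instance
    exact fibGrpd_isIso hS.1 _
  refine ⟨a ⟨false⟩ ≫ inv (a ⟨true⟩) ≫ ν, ?_, ?_⟩
  · rw [𝒳.p.map_comp, 𝒳.p.map_comp, Functor.map_inv]
    simp [(ha _).1]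
  haveI : IsIso ψ₁ := by
    have : IsIso (𝒳.p.map ψ₁) := by rw [hψ]; infer_instance
    exact fibGrpd_isIso hS.1 _
  have e1 : w ≫ a ⟨false⟩ ≫ α ⟨false⟩ = v ≫ w ≫ a ⟨true⟩ ≫ α ⟨true⟩ := by
    rw [← cancel_mono ψ₁]
    simp only [Category.assoc, (ha _).2]
    exact hμ
  have e2 : w ≫ a ⟨false⟩ = v ≫ w ≫ a ⟨true⟩ := by
    refine fibGrpd_ext hS.1 ν (by simp only [𝒳.p.map_comp, (ha _).1, hvm, Category.id_comp]) ?_
    have h3 := congrArg (· ≫ ρP) e1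
    simpa only [Category.assoc, (hα _).2] using h3
  rw [reassoc_of% e2]
  simp only [IsIso.hom_inv_id_assoc]
  exact hv

end Groth.Agent.IsoNatLib.Twist
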