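import Groth.Agent.IsoNatLib.Twist.Ext
import Groth.Agent.IsoNatLib.Twist.Glue
import Groth.Agent.IsoNatLib.Homeo
import Mathlib.Algebra.Polynomial.AlgebraMap
import Mathlib.AlgebraicGeometry.AffineScheme

/-!
# A separated presheaf of isomorphism classes forces trivial automorphisms
-/

set_option autoImplicit false
set_option linter.style.haveILetI false
set_option backward.isDefEq.respectTransparency false
set_option backward.isDefEq.respectTransparency.types false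

universe u

open CategoryTheory CategoryTheory.Limits AlgebraicGeometry Opposite FibCat
open Groth.Agent.Stk19 Groth.Agent.Desc19 Polynomial

namespace Groth.Agent.IsoNatLib.Twist

variable {S : Scheme.{u}} {𝒳 : AlgSt.Cat S}

/-- All vertical endomorphisms are trivial. -/
def Rigid (𝒳 : AlgSt.Cat S) : Prop := ∀ (z : 𝒳.obj) (s : z ⟶ z), 𝒳.p.map s = 𝟙 _ → s = 𝟙 z

theorem rigid_iff_forall_isClean : (∀ η : 𝒳.obj, IsoNat.IsClean η) ↔ Rigid 𝒳 :=
  ⟨fun h z => h z z (𝟙 z), fun h _ x _ s => h x s⟩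

section Axes

variable (R : CommRingCat.{u})

/-- The coordinate ring of two lines crossing at the origin. -/
noncomputable def axes : Subalgebra R (R[X] × R[X]) :=
  AlgHom.equalizer ((aeval (0 : R)).comp (AlgHom.fst R R[X] R[X])) ((aeval (0 : R)).comp (AlgHom.snd R R[X] R[X]))

/-- The two projections. -/
noncomputable def proj (s : Bool) : ↥(axes R) →+* R[X] :=
  (if s then RingHom.snd R[X] R[X] else RingHom.fst R[X] R[X]).comp (axes R).val.toRingHom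

/-- The two coordinates. -/
noncomputable def coord (s : Bool) : ↥(axes R) :=
  ⟨if s then (0, X) else (X, 0), by cases s <;> simp [axes, AlgHom.mem_equalizer]⟩

theorem coord_mul : coord R false * coord R true = 0 := Subtype.ext (by simp [coord])

theorem proj_coord (s : Bool) : proj R s (coord R s) = X := by cases s <;> simp [proj, coord]

theorem proj_algebraMap (s : Bool) : (proj R s).comp (algebraMap R ↥(axes R)) = Polynomial.C := by
  ext r
  cases s <;> simp [proj]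

theorem ev_proj (a : ↥(axes R)) (s : Bool) : evalRingHom 0 (proj R s a) = evalRingHom 0 (proj R false a) := by
  have h : (a : R[X] × R[X]) ∈ axes R := a.2
  simp only [axes, AlgHom.mem_equalizer, AlgHom.comp_apply, AlgHom.fst_apply, AlgHom.snd_apply,
    coe_aeval_eq_eval] at h
  cases s
  · rfl
  · simp only [proj, RingHom.comp_apply, coe_evalRingHom]
    exact h.symm

/-- The origin of the axes. -/
noncomputable def origin : ↥(axes R) →+* R := (evalRingHom 0).comp (proj R false)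

end Axes

/-- An automorphism over an affine scheme is trivial. -/
theorem aut_eq_id_affine (hS : Stk.IsStack (AlgSp.J S) 𝒳)
    (hd : AlgSt.RepByAlgSpWith AlgSp.IsSeparatedMor (FibCat.diag (toSelf 𝒳))) (hsep : SepCls 𝒳)
    {R : CommRingCat.{u}} (j : Spec R ⟶ S) (η : 𝒳.obj) (e : 𝒳.p.obj η = Over.mk j) (φ : η ⟶ η)
    (hφ : 𝒳.p.map φ = 𝟙 _) : φ = 𝟙 η := by
  let A : CommRingCat.{u} := CommRingCat.of ↥(axes R)
  let l₀ : Spec A ⟶ Spec R := Spec.map (CommRingCat.ofHom (algebraMap R ↥(axes R)))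
  let L : Over S := Over.mk (l₀ ≫ j)
  let l : L ⟶ Over.mk j := Over.homMk l₀
  obtain ⟨zL, ν, eL, hν⟩ := fibGrpd_lift hS.1 η (l ≫ eqToHom e.symm)
  let D : Bool → (Spec A).Opens := fun s => PrimeSpectrum.basicOpen (coord R s)
  let O : (Spec A).Opens := D false ⊔ D true
  let W : Over S := Over.mk (O.ι ≫ L.hom)
  let i : W ⟶ L := Over.homMk O.ι
  obtain ⟨zW, w, eW, hw⟩ := fibGrpd_lift hS.1 zL (i ≫ eqToHom eL.symm)
  have hle : ∀ s, D s ≤ O := fun s => by cases s; exacts [le_sup_left, le_sup_right]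
  let V : Bool → Over S := fun s => Over.mk ((D s).ι ≫ L.hom)
  let inc : ∀ s, V s ⟶ W := fun s => Over.homMk ((Spec A).homOfLE (hle s)) (by
    show (Spec A).homOfLE _ ≫ O.ι ≫ L.hom = _
    rw [Scheme.homOfLE_ι_assoc]
    rfl)
  have hinc : ∀ s, inc s ≫ i = (Over.homMk (D s).ι : V s ⟶ L) := fun s =>
    Over.OverMorphism.ext (Scheme.homOfLE_ι _ (hle s))
  choose z κ ez hκ using fun k : ULift.{u} Bool => fibGrpd_lift hS.1 zW (inc k.down ≫ eqToHom eW.symm)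
  let φs : Bool → (η ⟶ η) := fun s => if s then 𝟙 η else φ
  have hφs : ∀ s, 𝒳.p.map (φs s) = 𝟙 _ := fun s => by cases s <;> simp [φs, hφ]
  choose τ hτ _ using fun k : ULift.{u} Bool => fibGrpd_fac hS.1 (w ≫ ν) (κ k ≫ w ≫ ν ≫ φs k.down)
    (𝒳.p.map (κ k)) (by simp [hφs])
  haveI : ∀ k, IsOpenImmersion (𝒳.p.map (κ k)).left := fun k => by
    rw [hκ, Over.comp_left, Over.comp_left]
    haveI : IsOpenImmersion (inc k.down).left :=
      inferInstanceAs (IsOpenImmersion ((Spec A).homOfLE (hle k.down)))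
    infer_instance
  have hrange : ∀ (k : ULift.{u} Bool) (p : ↥(𝒳.p.obj (z k)).left),
      (𝒳.p.map w).left ((𝒳.p.map (κ k)).left p) ∈ (eqToHom eL.symm).left '' (D k.down : Set ↥(Spec A)) := by
    intro k p
    refine ⟨(Over.homMk (D k.down).ι : V k.down ⟶ L).left ((eqToHom (ez k)).left p), ?_, ?_⟩
    · exact ((eqToHom (ez k)).left p).2
    · rw [← Scheme.Hom.comp_apply, ← Scheme.Hom.comp_apply, ← Scheme.Hom.comp_apply, ← Over.comp_left,
        ← Over.comp_left, ← Over.comp_left, hκ, hw, ← hinc]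
      simp
  haveI : Mono (eqToHom eL.symm).left := inferInstance
  obtain ⟨χ, hχm, hχ⟩ := glue_disjoint hS (x := zW) (y := zW) rfl z κ τ
    (fun k => by rw [(hτ k).1, eqToHom_refl, Category.comp_id])
    (fun k => (Over.forget S).mono_of_mono_map (inferInstanceAs (Mono (𝒳.p.map (κ k)).left)))
    (AlgSpLib.ofArrows_mem_J _ fun q => by
      have key : ∀ (s : Bool) (hq : ((eqToHom eW).left q : ↥O.toScheme).1 ∈ D s),
          q ∈ Set.range (𝒳.p.map (κ ⟨s⟩)).left := by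
        intro s hq
        refine ⟨(eqToHom (ez ⟨s⟩).symm).left ⟨_, hq⟩, ?_⟩
        rw [hκ, ← Scheme.Hom.comp_apply, ← Over.comp_left]
        simp only [eqToHom_trans_assoc, eqToHom_refl, Category.id_comp, Over.comp_left]
        rw [Scheme.Hom.comp_apply]
        have e1 : (inc s).left ⟨_, hq⟩ = (eqToHom eW).left q :=
          O.ι.isOpenEmbedding.injective (congrArg (fun f : V s ⟶ L => f.left ⟨_, hq⟩) (hinc s))
        rw [e1, ← Scheme.Hom.comp_apply, ← Over.comp_left, eqToHom_trans, eqToHom_refl]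
        rfl
      rcases ((eqToHom eW).left q : ↥O.toScheme).2 with hq | hq
      exacts [⟨⟨false⟩, key false hq⟩, ⟨⟨true⟩, key true hq⟩])
    (fun Z k k' a b hab => by
      by_cases hk : k = k'
      · exact Or.inl hk
      refine Or.inr ⟨fun p => ?_⟩
      have h2 : (𝒳.p.map w).left ((𝒳.p.map (κ k)).left (a.left p)) =
          (𝒳.p.map w).left ((𝒳.p.map (κ k')).left (b.left p)) := by
        rw [← Scheme.Hom.comp_apply (a.left), ← Over.comp_left, hab, Over.comp_left, Scheme.Hom.comp_apply]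
      obtain ⟨c, hc, hce⟩ := hrange k (a.left p)
      obtain ⟨c', hc', hce'⟩ := hrange k' (b.left p)
      have hcc : c = c' := (Scheme.Hom.isOpenEmbedding (eqToHom eL.symm).left).injective
        (hce.trans (h2.trans hce'.symm))
      subst hcc
      have h3 : c ∈ PrimeSpectrum.basicOpen (coord R false * coord R true) := by
        rw [PrimeSpectrum.basicOpen_mul]
        obtain ⟨_ | _⟩ := k <;> obtain ⟨_ | _⟩ := k'
        all_goals first | exact absurd rfl hk | exact ⟨hc, hc'⟩ | exact ⟨hc', hc⟩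
      rw [coord_mul, PrimeSpectrum.basicOpen_zero] at h3
      exact h3)
  haveI : IsOpenImmersion (𝒳.p.map w).left := by
    rw [hw, Over.comp_left, Over.comp_left]
    haveI : IsOpenImmersion i.left := inferInstanceAs (IsOpenImmersion O.ι)
    infer_instance
  obtain ⟨c, hcm, hc⟩ := exists_extend hS hsep ν w (χ ≫ w ≫ ν) (by
    rw [𝒳.p.map_comp, 𝒳.p.map_comp, hχm, eqToHom_refl, Category.id_comp])
  -- restriction to the two lines and then to the origin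
  let σ : Over.mk j ⟶ L := Over.homMk (Spec.map (CommRingCat.ofHom (origin R))) (by
    show Spec.map _ ≫ Spec.map _ ≫ j = j
    rw [← Spec.map_comp_assoc, ← CommRingCat.ofHom_comp, origin, RingHom.comp_assoc, proj_algebraMap,
      show ((evalRingHom (0 : R)).comp Polynomial.C) = RingHom.id R from RingHom.ext fun r => by simp,
      CommRingCat.ofHom_id, Spec.map_id, Category.id_comp])
  have hσl : σ ≫ l = 𝟙 _ := Over.OverMorphism.ext (by
    show Spec.map _ ≫ Spec.map _ = 𝟙 (Spec R)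
    rw [← Spec.map_comp, ← CommRingCat.ofHom_comp, origin, RingHom.comp_assoc, proj_algebraMap,
      show ((evalRingHom (0 : R)).comp Polynomial.C) = RingHom.id R from RingHom.ext fun r => by simp,
      CommRingCat.ofHom_id, Spec.map_id])
  obtain ⟨ω, ⟨hωm, hω⟩, -⟩ := fibGrpd_fac hS.1 ν (𝟙 η) (eqToHom e ≫ σ ≫ eqToHom eL.symm) (by
    rw [hν, 𝒳.p.map_id]
    simp [reassoc_of% hσl])
  have hres : ∀ s, ω ≫ c = φs s := by
    intro s
    let m₀ : Spec (CommRingCat.of R[X]) ⟶ Spec A := Spec.map (CommRingCat.ofHom (proj R s))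
    let M : Over S := Over.mk (m₀ ≫ L.hom)
    let m : M ⟶ L := Over.homMk m₀
    obtain ⟨zM, eM', eM, heM⟩ := fibGrpd_lift hS.1 zL (m ≫ eqToHom eL.symm)
    let f := CommRingCat.ofHom (algebraMap R[X] (Localization.Away (X : R[X])))
    let T₀ : Over S := Over.mk (Spec.map f ≫ M.hom)
    let t : T₀ ⟶ M := Over.homMk (Spec.map f)
    obtain ⟨zV, tV, eV, htV⟩ := fibGrpd_lift hS.1 zM (t ≫ eqToHom eM.symm)
    have hrg : Set.range (Spec.map f ≫ m₀) ⊆ Set.range (D s).ι := by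
      rintro _ ⟨p, rfl⟩
      rw [Scheme.Opens.range_ι]
      show coord R s ∉ (PrimeSpectrum.comap (proj R s) (PrimeSpectrum.comap f.hom p)).asIdeal
      intro hmem
      have hu : IsUnit (algebraMap R[X] (Localization.Away (X : R[X])) X) :=
        IsLocalization.map_units _ (⟨X, Submonoid.mem_powers _⟩ : Submonoid.powers (X : R[X]))
      refine p.2.ne_top (Ideal.eq_top_of_isUnit_mem _ ?_ hu)
      simpa [f, proj_coord] using hmem
    let d : T₀ ⟶ V s := Over.homMk (IsOpenImmersion.lift (D s).ι (Spec.map f ≫ m₀) hrg) (by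
      show _ ≫ (D s).ι ≫ L.hom = _
      rw [IsOpenImmersion.lift_fac_assoc, Category.assoc]
      rfl)
    have hdm : d ≫ inc s ≫ i = t ≫ m := by
      rw [hinc]
      exact Over.OverMorphism.ext (IsOpenImmersion.lift_fac _ _ _)
    obtain ⟨δ, ⟨hδm, hδ⟩, -⟩ := fibGrpd_fac hS.1 (κ ⟨s⟩ ≫ w) (tV ≫ eM')
      (eqToHom eV ≫ d ≫ eqToHom (ez ⟨s⟩).symm) (by
        rw [𝒳.p.map_comp, 𝒳.p.map_comp, hκ, hw, htV, heM]
        simp [reassoc_of% hdm])
    have hagree : tV ≫ eM' ≫ c = tV ≫ eM' ≫ ν ≫ φs s := by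
      rw [← Category.assoc, ← hδ, ← Category.assoc tV eM', ← hδ]
      simp only [Category.assoc, hc, ← Category.assoc (κ ⟨s⟩) χ, hχ]
      rw [(hτ ⟨s⟩).2]
    have hdom : IsDominantSch (𝒳.p.map tV).left := by
      rw [htV]
      have hinj : Function.Injective f.hom :=
        IsLocalization.injective _ (Submonoid.powers_le.2 Polynomial.monic_X.mem_nonZeroDivisors)
      intro E iE _ lE hl
      have h4 : ((eqToHom eV.symm).left ≫ lE) ≫ iE ≫ (eqToHom eM).left = Spec.map f := by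
        rw [Category.assoc, reassoc_of% hl]
        simp only [← Over.comp_left]
        simp [t]
      have := isDominantSch_spec f hinj (iE ≫ (eqToHom eM).left) ((eqToHom eV.symm).left ≫ lE) h4
      exact IsIso.of_isIso_comp_right iE (eqToHom eM).left
    have heq : eM' ≫ c = eM' ≫ ν ≫ φs s :=
      hom_ext_of_dominant hS.1 hd (eM' ≫ c) (eM' ≫ ν ≫ φs s) (by simp [hcm, hφs]) tV hdom hagree
    let o : Over.mk j ⟶ M := Over.homMk (Spec.map (CommRingCat.ofHom (evalRingHom (0 : R)))) (by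
      rw [← Over.w σ]
      show Spec.map _ ≫ Spec.map _ ≫ _ = Spec.map _ ≫ _
      rw [← Spec.map_comp_assoc, ← CommRingCat.ofHom_comp]
      congr 3
      exact RingHom.ext fun a => ev_proj R a s)
    have ho : o ≫ m = σ := Over.OverMorphism.ext (by
      show Spec.map _ ≫ Spec.map _ = Spec.map _
      rw [← Spec.map_comp, ← CommRingCat.ofHom_comp]
      congr 2
      exact RingHom.ext fun a => ev_proj R a s)
    obtain ⟨ω', ⟨-, hω'⟩, -⟩ := fibGrpd_fac hS.1 eM' ω (eqToHom e ≫ o ≫ eqToHom eM.symm) (by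
      rw [heM, hωm]
      simp [reassoc_of% ho])
    rw [← hω', Category.assoc, heq, reassoc_of% hω', reassoc_of% hω]
  exact (hres false).symm.trans (hres true)

/-- Separation of the presheaf of isomorphism classes forces all automorphisms to be trivial. -/
theorem rigid_of_sepCls (hS : Stk.IsStack (AlgSp.J S) 𝒳)
    (hd : AlgSt.RepByAlgSpWith AlgSp.IsSeparatedMor (FibCat.diag (toSelf 𝒳))) (hsep : SepCls 𝒳) :
    Rigid 𝒳 := by
  intro η φ hφ
  let T := 𝒳.p.obj η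
  let 𝒰 := T.left.affineCover
  let c : ∀ k, Over.mk (𝒰.f k ≫ T.hom) ⟶ T := fun k => Over.homMk (𝒰.f k)
  haveI : ∀ k, IsOpenImmersion (c k).left := fun k => inferInstanceAs (IsOpenImmersion (𝒰.f k))
  refine aut_eq_id_of_local (AlgSp.J S) (isStack_isPrestack hS) φ hφ
    (R := Sieve.ofArrows _ c) (AlgSpLib.ofArrows_mem_J _ fun q => by
      obtain ⟨k, y, hy⟩ := 𝒰.exists_eq q
      exact ⟨k, y, hy⟩) ?_
  intro V f hf z ν hν φ' hφ' hc
  obtain ⟨k, g, rfl⟩ := (Sieve.mem_ofArrows_iff _ _ _).1 hf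
  obtain ⟨zk, νk, ek, hνk⟩ := fibGrpd_lift hS.1 η (c k)
  obtain ⟨φk, hφk, hck⟩ := exists_restrict_aut hS.1 νk φ hφ
  have hk : φk = 𝟙 zk := aut_eq_id_affine hS hd hsep (𝒰.f k ≫ T.hom) zk ek φk hφk
  have e0 : 𝒳.p.obj z = V := IsHomLift.domain_eq 𝒳.p (g ≫ c k) ν
  obtain ⟨γ, ⟨-, hγ⟩, -⟩ := fibGrpd_fac hS.1 νk ν (eqToHom e0 ≫ g ≫ eqToHom ek.symm) (by
    rw [IsHomLift.fac' 𝒳.p (g ≫ c k) ν, hνk]
    simp)
  refine fibGrpd_ext hS.1 ν (by rw [hφ', 𝒳.p.map_id]) ?_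
  rw [hc, Category.id_comp]
  conv_lhs => rw [← hγ, Category.assoc, ← hck, hk, Category.id_comp, hγ]

theorem hom_ext_of_rigid (h : IsFibGrpd 𝒳.p) (hr : Rigid 𝒳) {z y : 𝒳.obj} (f₁ f₂ : z ⟶ y)
    (hf : 𝒳.p.map f₁ = 𝒳.p.map f₂) : f₁ = f₂ := by
  obtain ⟨χ, ⟨hχm, hχ⟩, -⟩ := fibGrpd_fac h f₁ f₂ (𝟙 _) ((Category.id_comp _).trans hf)
  rw [← hχ, hr z χ hχm, Category.id_comp]

theorem isFibSetoid_of_rigid (h : IsFibGrpd 𝒳.p) (hr : Rigid 𝒳) : IsFibSetoid 𝒳.p :=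
  ⟨h, fun U x y => ⟨fun f g => Functor.Fiber.hom_ext (hom_ext_of_rigid h hr _ _ (by
    haveI := f.2
    haveI := g.2
    show 𝒳.p.map f.1 = 𝒳.p.map g.1
    rw [IsHomLift.fac' 𝒳.p (𝟙 U) f.1, IsHomLift.fac' 𝒳.p (𝟙 U) g.1]))⟩⟩

theorem rigid_of_isFibSetoid (h : IsFibSetoid 𝒳.p) : Rigid 𝒳 := fun z s hs =>
  congrArg Subtype.val ((h.2 (𝒳.p.obj z) ⟨z, rfl⟩ ⟨z, rfl⟩).elim
    ⟨s, vert_of_map_eq 𝒳.p (h := rfl) (hs.trans (eqToHom_refl _ _).symm)⟩ ⟨𝟙 _, IsHomLift.id rfl⟩)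

/-- Trivial automorphisms give a separated presheaf of isomorphism classes. -/
theorem sepCls_of_rigid (hS : Stk.IsStack (AlgSp.J S) 𝒳) (hr : Rigid 𝒳) : SepCls 𝒳 := by
  intro T T' π _ _ _ x₁ x₂ x₁' x₂' a₁ a₂ ha₁ ha₂ hi
  obtain ⟨x₁, e₁⟩ := x₁
  obtain ⟨x₂, e₂⟩ := x₂
  obtain ⟨i⟩ := hi
  subst e₁
  let R := Sieve.ofArrows (fun _ : PUnit.{u + 1} => T') (fun _ => π)
  have hR : R ∈ AlgSp.J S _ := AlgSpLib.ofArrows_mem_J _ fun q => by
    obtain ⟨y, hy⟩ := Surjective.surj (f := π.left) q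
    exact ⟨⟨⟩, y, hy⟩
  let b : x₁'.1 ⟶ x₂ := i.hom.1 ≫ a₂
  haveI := ha₁
  haveI := ha₂
  haveI := i.hom.2
  have hb : 𝒳.p.map b = 𝒳.p.map a₁ ≫ eqToHom e₂.symm := by
    show 𝒳.p.map (i.hom.1 ≫ a₂) = _
    rw [𝒳.p.map_comp, IsHomLift.fac' 𝒳.p (𝟙 T') i.hom.1, IsHomLift.fac' 𝒳.p π a₂,
      IsHomLift.fac' 𝒳.p π a₁]
    simp
  have hfac : ∀ (z : 𝒳.obj) (ν : z ⟶ x₁), R.arrows (𝒳.p.map ν ≫ eqToHom rfl) →
      ∃ t : z ⟶ x₂, 𝒳.p.map t = 𝒳.p.map ν ≫ eqToHom e₂.symm := by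
    intro z ν hν
    rw [eqToHom_refl, Category.comp_id] at hν
    obtain ⟨-, l, hl⟩ := (Sieve.mem_ofArrows_iff _ _ _).1 hν
    obtain ⟨ω, ⟨-, hω⟩, -⟩ := fibGrpd_fac hS.1 a₁ ν (l ≫ eqToHom x₁'.2.symm) (by
      rw [IsHomLift.fac' 𝒳.p π a₁]
      simp [hl])
    exact ⟨ω ≫ b, by rw [𝒳.p.map_comp, hb, ← Category.assoc, ← 𝒳.p.map_comp, hω]⟩
  choose t ht using hfac
  obtain ⟨χ, ⟨hχ, -⟩, -⟩ := (isPrestackFor_iff_glue hS.1 R).1 ((isStack_isPrestack hS).2 R hR)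
    x₁ x₂ rfl e₂ t ht fun z' z g ν h h' =>
      hom_ext_of_rigid hS.1 hr _ _ (by rw [𝒳.p.map_comp, ht, ht, 𝒳.p.map_comp, Category.assoc])
  haveI : IsIso χ := by
    have : IsIso (𝒳.p.map χ) := by rw [hχ]; infer_instance
    exact fibGrpd_isIso hS.1 _
  have hv := vert_of_map_eq 𝒳.p (φ := χ) hχ
  let o₁ : 𝒳.p.Fiber (𝒳.p.obj x₁) := ⟨x₁, rfl⟩
  let o₂ : 𝒳.p.Fiber (𝒳.p.obj x₁) := ⟨x₂, e₂⟩
  haveI : 𝒳.p.IsHomLift (𝟙 (𝒳.p.obj x₁)) (asIso χ).hom := hv
  haveI := vert_inv 𝒳.p (asIso χ) (inferInstance : 𝒳.p.IsHomLift (𝟙 (𝒳.p.obj x₁)) (asIso χ).hom)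
  exact ⟨(⟨Functor.Fiber.homMk 𝒳.p _ (asIso χ).hom, Functor.Fiber.homMk 𝒳.p _ (asIso χ).inv,
    Functor.Fiber.hom_ext (asIso χ).hom_inv_id, Functor.Fiber.hom_ext (asIso χ).inv_hom_id⟩ : o₁ ≅ o₂)⟩

/-- Separation passes along an isomorphism of the presheaves of isomorphism classes. -/
theorem sepCls_of_fIso {𝒴 : AlgSt.Cat S} (h𝒳 : IsFibGrpd 𝒳.p) (h𝒴 : IsFibGrpd 𝒴.p) (φ : IsoNat.FIso 𝒳 𝒴)
    (hsep : SepCls 𝒳) : SepCls 𝒴 := by
  intro T T' π _ _ _ y₁ y₂ y₁' y₂' b₁ b₂ hb₁ hb₂ hi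
  obtain ⟨i⟩ := hi
  let ψ := symmFIso φ h𝒳 h𝒴
  obtain ⟨x₁', x₁, a₁, ha₁, hx₁', hx₁⟩ := ψ.natural π y₁' y₁ b₁ hb₁
  obtain ⟨x₂', x₂, a₂, ha₂, hx₂', hx₂⟩ := ψ.natural π y₂' y₂ b₂ hb₂
  have he : IsoNat.cls x₁' = IsoNat.cls x₂' := by
    rw [← hx₁', ← hx₂', show IsoNat.cls y₁' = IsoNat.cls y₂' from Quotient.sound ⟨i⟩]
  obtain ⟨j⟩ := hsep T T' π x₁ x₂ x₁' x₂' a₁ a₂ ha₁ ha₂ (Quotient.exact he)
  have : ψ.toEquiv T (IsoNat.cls y₁) = ψ.toEquiv T (IsoNat.cls y₂) := by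
    rw [hx₁, hx₂]
    exact Quotient.sound ⟨j⟩
  exact Quotient.exact ((ψ.toEquiv T).injective this)

end Groth.Agent.IsoNatLib.Twist
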